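import Cfsg.Agent.H745.TF.Q2

/-!
# S5262, `q = 2`, B-side: the finite parts (kernel checks)
-/

set_option autoImplicit false

namespace Cfsg.Agent.H240.TF

open Cfsg Cfsg.FusionSystem Cfsg.Agent.H756.PU Cfsg.Agent.H802 Cfsg.Agent.H745.TF

universe u v

/-- (FINB) an automorphism of `QB` which centralizes `ρ0` and `V`, and for which `s · c_x1 · i` is an involution for some
inner `i`, is inner -/
def StFinB : Prop :=
  ∀ {K : Type u} [Field K] {σ : K →+* K}, HypK σ 0 → ∀ {U : Type v} [Group U] (T : TF σ U)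
    (cx w0 ρ0 s : MulAut T.QB), (∀ e : T.QB, ((cx e : T.QB) : U) = T.x1 1 * e * (T.x1 1)⁻¹) → T.IsWb w0 →
    ρ0 = cx * w0 → s * ρ0 = ρ0 * s → (∀ e : T.QB, (e : U) ∈ T.V → s e = e) →
    (∃ i ∈ Inn T.QB, (s * cx * i) * (s * cx * i) = 1) → s ∈ Inn T.QB

/-- (RHO) `ρ0 = c_x1 ∘ w0` has order 3 -/
def StRhoB : Prop :=
  ∀ {K : Type u} [Field K] {σ : K →+* K}, HypK σ 0 → ∀ {U : Type v} [Group U] (T : TF σ U)
    (cx w0 : MulAut T.QB), (∀ e : T.QB, ((cx e : T.QB) : U) = T.x1 1 * e * (T.x1 1)⁻¹) → T.IsWb w0 →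
    (cx * w0) * (cx * w0) * (cx * w0) = 1

/-- (STB) the stabilizer of `Z4` in `Aut(QB)` is a 2-group -/
def StStab2B : Prop :=
  ∀ {K : Type u} [Field K] {σ : K →+* K}, HypK σ 0 → ∀ {U : Type v} [Group U] (T : TF σ U) (γ : MulAut T.QB),
    (∀ e : T.QB, (e : U) = T.x4 0 1 → γ e = e) → ∃ n : ℕ, γ ^ 2 ^ n = 1

end Cfsg.Agent.H240.TF
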