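import Cfsg.Agent.H181.TF.Stab2
import Cfsg.Agent.H483.TF.A2Def

/-!
# S5262, `q = 2`, A-side: `StStab2A` (helper240)
-/

set_option autoImplicit false
set_option linter.unusedSimpArgs false

namespace Cfsg.Agent.H240.TF

open Cfsg Cfsg.FusionSystem Cfsg.Agent.H756.PU Cfsg.Agent.H745.TF Cfsg.Agent.H181.TF

universe u v

variable {K : Type u} [Field K] (σ : K →+* K)

/-- `X2⋯X7 = {x ∈ QA | [D, x] ≤ E4}` -/
theorem qa_2' (c : Cd K) : (p2 K) c = (p2 K) zc ↔ (pQ K) c = (pQ K) zc ∧ ∀ d, (pD K) d = (pD K) zc →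
    (pE4 K) (mul σ d c) = (pE4 K) (mul σ c d) := by
  constructor
  · intro h
    obtain ⟨ma1, ma8, mb8⟩ := p2_iff.1 h
    simp only [zc] at ma1 ma8 mb8
    refine ⟨pQ_iff.2 ⟨ma8, mb8⟩, fun d hd => ?_⟩
    obtain ⟨na1, na2, na6, na7, na8, nb8⟩ := pD_iff.1 hd
    simp only [zc] at na1 na2 na6 na7 na8 nb8
    refine pE4_iff.2 ⟨?_, ?_, ?_, ?_, ?_, ?_, ?_, ?_⟩ <;>
    · simp only [mul, ma1, ma8, mb8, na1, na2, na6, na7, na8, nb8, map_zero, map_one, mul_zero, zero_mul, mul_one, one_mul,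
        add_zero, zero_add, one_pow, zero_pow two_ne_zero, zero_pow three_ne_zero]
      try ring1
  · rintro ⟨h0, h⟩
    obtain ⟨ma8, mb8⟩ := pQ_iff.1 h0
    simp only [zc] at ma8 mb8
    have ma1 : c.a1 = 0 := by
      obtain ⟨-, -, e, -, -, -, -, -⟩ := pE4_iff.1 (h ⟨0, 0, 0, 0, 1, 0, 0, 0, 0, 0, 0, 0⟩ rfl)
      simp only [mul, ma8, mb8, map_zero, map_one, mul_zero, zero_mul, mul_one, one_mul, add_zero, zero_add, one_pow,
        zero_pow two_ne_zero, zero_pow three_ne_zero] at e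
      linear_combination e
    exact p2_iff.2 ⟨ma1, ma8, mb8⟩

/-- `V = {x ∈ E | [X2⋯X7, x] = 1}` -/
theorem qa_V' (c : Cd K) : (pV K) c = (pV K) zc ↔ (pE K) c = (pE K) zc ∧ ∀ d, (p2 K) d = (p2 K) zc →
    (fun c : Cd K => c) (mul σ d c) = (fun c : Cd K => c) (mul σ c d) := by
  constructor
  · intro h
    obtain ⟨ma1, ma2, mb2, ma3, ma4, ma5, ma6, ma7, ma8, mb8⟩ := pV_iff.1 h
    simp only [zc] at ma1 ma2 mb2 ma3 ma4 ma5 ma6 ma7 ma8 mb8
    refine ⟨pE_iff.2 ⟨ma1, ma2, ma4, ma6, ma7, ma8, mb8⟩, fun d hd => ?_⟩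
    obtain ⟨na1, na8, nb8⟩ := p2_iff.1 hd
    simp only [zc] at na1 na8 nb8
    refine p1_iff.2 ⟨?_, ?_, ?_, ?_, ?_, ?_, ?_, ?_, ?_, ?_, ?_, ?_⟩ <;>
    · simp only [mul, ma1, ma2, mb2, ma3, ma4, ma5, ma6, ma7, ma8, mb8, na1, na8, nb8, map_zero, map_one, mul_zero,
        zero_mul, mul_one, one_mul, add_zero, zero_add, one_pow, zero_pow two_ne_zero, zero_pow three_ne_zero]
      try ring1
  · rintro ⟨h0, h⟩
    obtain ⟨ma1, ma2, ma4, ma6, ma7, ma8, mb8⟩ := pE_iff.1 h0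
    simp only [zc] at ma1 ma2 ma4 ma6 ma7 ma8 mb8
    have ma5 : c.a5 = 0 := by
      obtain ⟨-, -, -, -, -, e, -, -, -, -, -, -⟩ := p1_iff.1 (h ⟨0, 1, 0, 0, 0, 0, 0, 0, 0, 0, 0, 0⟩ rfl)
      simp only [mul, ma1, ma2, ma4, ma6, ma7, ma8, mb8, map_zero, map_one, mul_zero, zero_mul, mul_one, one_mul, add_zero,
        zero_add, one_pow, zero_pow two_ne_zero, zero_pow three_ne_zero] at e
      linear_combination -e
    have ma3 : c.a3 = 0 := by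
      obtain ⟨-, -, -, -, -, e, -, -, -, -, -, -⟩ := p1_iff.1 (h ⟨0, 0, 0, 0, 0, 0, 0, 1, 0, 0, 0, 0⟩ rfl)
      simp only [mul, ma1, ma2, ma4, ma5, ma6, ma7, ma8, mb8, map_zero, map_one, mul_zero, zero_mul, mul_one, one_mul,
        add_zero, zero_add, one_pow, zero_pow two_ne_zero, zero_pow three_ne_zero] at e
      linear_combination e
    have mb2 : c.b2 = 0 := by
      obtain ⟨-, -, -, -, -, e, -, -, -, -, -, -⟩ := p1_iff.1 (h ⟨0, 0, 0, 0, 0, 0, 0, 0, 0, 1, 0, 0⟩ rfl)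
      simp only [mul, ma1, ma2, ma3, ma4, ma5, ma6, ma7, ma8, mb8, map_zero, map_one, mul_zero, zero_mul, mul_one, one_mul,
        add_zero, zero_add, one_pow, zero_pow two_ne_zero, zero_pow three_ne_zero] at e
      linear_combination e
    exact pV_iff.2 ⟨ma1, ma2, mb2, ma3, ma4, ma5, ma6, ma7, ma8, mb8⟩

/-- (STA) -/
theorem stStab2A : Cfsg.Agent.H483.TF.StStab2A.{u, v} := by
  intro K _ σ hK U _ T γ hγ
  have := Cfsg.Agent.H752.TF.finite_U hK T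
  have h1 := pres_one hK T γ
  have hQ : Pres γ (CS hK T (cQ σ)) := by
    rw [← QA_eq hK T]
    exact pres_self γ
  have le : ∀ {M : Subgroup U}, M ≤ CS hK T (cQ σ) → M ≤ T.QA := fun h => by rwa [QA_eq hK T]
  have hZ : Pres γ (CS hK T (cZ σ)) := pres_tr hK T (qa_Z σ) (le le_rfl) hQ hQ h1
  have hE : Pres γ (CS hK T (cE σ)) := pres_tr hK T (qa_E σ) (le le_rfl) hQ hQ hZ
  have hD : Pres γ (CS hK T (cD σ)) := pres_tr hK T (qa_D σ) (le (l_E_Q hK T)) hQ hE h1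
  have hx7 : T.x7 1 ∈ T.QA := Cfsg.Agent.H752.TF.X7_le_QA T (Cfsg.Agent.H752.TF.x7_mem T 1)
  have hD' : ∀ x : T.QA, (x : U) ∈ T.D → ((γ x : T.QA) : U) ∈ T.D := by
    intro x hx
    rw [D_eq hK T] at hx ⊢
    exact (hD x).1 hx
  have hx72 : T.x7 1 * T.x7 1 = 1 := by
    apply Cfsg.Agent.H752.TF.co_injective T
    rw [Cfsg.Agent.H752.TF.co_mul hK, Cfsg.Agent.H752.TF.co_x7, Cfsg.Agent.H752.TF.co_one]
    ext <;> simp only [Cfsg.Agent.H752.TF.e7, mul, map_zero, map_one, mul_zero, zero_mul, mul_one, one_mul, add_zero,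
      zero_add, one_pow, zero_pow two_ne_zero, zero_pow three_ne_zero]
    rw [← two_mul, hK.two, zero_mul]
  have hx7i : (T.x7 1)⁻¹ = T.x7 1 := inv_eq_of_mul_eq_one_left hx72
  have hc7 : ∀ x : U, x ∈ CS hK T (c7 σ) ↔ x ∈ T.D ∨ (T.x7 1)⁻¹ * x ∈ T.D := by
    intro x
    rw [mem_CS, ← co_eq, Cfsg.Agent.H752.TF.mem_D hK T, Cfsg.Agent.H752.TF.mem_D hK T, hx7i,
      Cfsg.Agent.H752.TF.co_mul hK, Cfsg.Agent.H752.TF.co_x7]
    generalize Cfsg.Agent.H752.TF.co T x = c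
    constructor
    · intro h
      obtain ⟨ma1, ma2, ma6, ma8, mb8⟩ := p7_iff.1 h
      simp only [zc] at ma1 ma2 ma6 ma8 mb8
      rcases k01 hK c.a7 with h7 | h7
      · exact Or.inl ⟨ma1, ma2, ma6, h7, ma8, mb8⟩
      · right
        refine ⟨?_, ?_, ?_, ?_, ?_, ?_⟩ <;>
          simp only [Cfsg.Agent.H752.TF.e7, mul, ma1, ma2, ma6, ma8, mb8, h7, map_zero, map_one, mul_zero, zero_mul,
            mul_one, one_mul, add_zero, zero_add, one_pow, zero_pow two_ne_zero, zero_pow three_ne_zero]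
        rw [← two_mul, hK.two, zero_mul]
    · rintro (⟨h1, h2, h6, h7, h8, h9⟩ | ⟨h1, h2, h6, h7, h8, h9⟩)
      · exact p7_iff.2 ⟨h1, h2, h6, h8, h9⟩
      · simp only [Cfsg.Agent.H752.TF.e7, mul, map_zero, map_one, mul_zero, zero_mul,
            mul_one, one_mul, add_zero, zero_add, one_pow, zero_pow two_ne_zero, zero_pow three_ne_zero] at h1 h2 h6 h7 h8 h9
        exact p7_iff.2 ⟨h1, h2, h6, h8, h9⟩
  have h7 : Pres γ (CS hK T (c7 σ)) := by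
    refine pres_of_le fun x hx => ?_
    rw [hc7] at hx ⊢
    rcases hx with hx | hx
    · exact Or.inl (hD' x hx)
    · right
      have e : x = ⟨T.x7 1, hx7⟩ * ⟨(T.x7 1)⁻¹ * x, mul_mem (inv_mem hx7) x.2⟩ :=
        Subtype.ext (mul_inv_cancel_left _ _).symm
      rw [e, map_mul, Subgroup.coe_mul, ← mul_assoc]
      exact mul_mem (hγ _ rfl) (hD' _ hx)
  have hE4 : Pres γ (CS hK T (cE4 σ)) := pres_tr hK T (qa_E4 σ) (le (l_7_Q hK T)) hE h7 h1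
  have h2 : Pres γ (CS hK T (c2 σ)) := pres_tr hK T (qa_2' σ) (le (l_D_Q hK T)) hQ hD hE4
  have hV : Pres γ (CS hK T (cV σ)) := pres_tr hK T (qa_V' σ) (le (l_2_Q hK T)) hE h2 h1
  refine pow_A hK T γ fun x hx => ?_
  rw [V_eq hK T] at hx ⊢
  exact (hV x).1 hx

end Cfsg.Agent.H240.TF
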