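import Cfsg.Agent.H240.TF.B2Base
import Cfsg.Agent.H181.TF.Stab2

/-!
# S5262, `q = 2`, B-side: `stB2_of` (helper240)
-/

set_option autoImplicit false
set_option linter.unusedVariables false
set_option linter.unusedSimpArgs false

namespace Cfsg.Agent.H240.TF

open Cfsg Cfsg.FusionSystem Cfsg.Agent.H756.PU Cfsg.Agent.H745.TF Cfsg.Agent.H752.TF
open Cfsg.Agent.H802 (mem_autInducedBy_iff exists_conjAut)
open Cfsg.Agent.H181.TF (k01)

universe u v

section

variable {K : Type u} [Field K] {σ : K →+* K} (hK : HypK σ 0)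
variable {U : Type v} [Group U] (T : TF σ U)

/-- conjugation by an element of `U` as an automorphism of `QB` -/
theorem exists_cj (hK : HypK σ 0) (g : U) : ∃ γ : MulAut T.QB, ∀ e : T.QB, ((γ e : T.QB) : U) = g * e * g⁻¹ := by
  have hn := QB_normal hK T
  refine ⟨{ toFun := fun e => ⟨g * e * g⁻¹, hn.conj_mem e e.2 g⟩
            invFun := fun e => ⟨g⁻¹ * e * g, by have := hn.conj_mem e e.2 g⁻¹; rwa [inv_inv] at this⟩
            left_inv := fun e => Subtype.ext (by change g⁻¹ * (g * e * g⁻¹) * g = e; group)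
            right_inv := fun e => Subtype.ext (by change g * (g⁻¹ * e * g) * g⁻¹ = e; group)
            map_mul' := fun a b => Subtype.ext (by
              change g * ((a * b : T.QB) : U) * g⁻¹ = g * a * g⁻¹ * (g * b * g⁻¹)
              rw [Subgroup.coe_mul]; group) }, fun e => rfl⟩

theorem mem_innB {γ : MulAut T.QB} {g : U} (hg : g ∈ T.QB) (h : ∀ e : T.QB, ((γ e : T.QB) : U) = g * e * g⁻¹) :
    γ ∈ Inn T.QB := ⟨⟨g, hg⟩, MulEquiv.ext fun e => Subtype.ext (h e).symm⟩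

include hK

theorem x1_not_mem : T.x1 1 ∉ T.QB := by
  rw [mem_QB hK, co_x1]
  exact one_ne_zero

theorem x1_sq : T.x1 1 * T.x1 1 = 1 := by
  apply co_injective T
  rw [co_mul hK, co_x1, co_one]
  ext <;> simp only [e1, mul_a1, mul_a2, mul_b2, mul_a3, mul_a4, mul_b4, mul_a5, mul_a6, mul_b6, mul_a7, mul_a8, mul_b8,
    zero_mul, mul_zero, add_zero, zero_add, map_zero, pow_zero, ne_eq, OfNat.ofNat_ne_zero, not_false_eq_true, zero_pow]
  rw [← two_mul, hK.two, zero_mul]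

theorem idx2 {g h : U} (hg : g ∉ T.QB) (hh : h ∉ T.QB) : g⁻¹ * h ∈ T.QB := by
  rw [mem_QB hK] at hg hh ⊢
  have e : co T (g * (g⁻¹ * h)) = co T h := by rw [mul_inv_cancel_left]
  rw [co_mul hK] at e
  have e1 := congrArg Cd.a1 e
  rw [mul_a1] at e1
  have a1 := (k01 hK (co T g).a1).resolve_left hg
  have a2 := (k01 hK (co T h).a1).resolve_left hh
  rw [a1, a2] at e1
  linear_combination e1

/-- `[x1(1), z6(1)] = z4(1)` -/
theorem cx_z6 : T.x1 1 * T.x6 0 1 * (T.x1 1)⁻¹ = T.x4 0 1 * T.x6 0 1 := by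
  have h : T.x1 1 * T.x6 0 1 = T.x4 0 1 * T.x6 0 1 * T.x1 1 := by
    apply co_injective T
    rw [co_mul hK, co_mul hK, co_mul hK, co_x1, co_x6, co_x4]
    ext <;> simp only [e1, e4, e6, mul_a1, mul_a2, mul_b2, mul_a3, mul_a4, mul_b4, mul_a5, mul_a6, mul_b6, mul_a7, mul_a8,
      mul_b8, zero_mul, mul_zero, add_zero, zero_add, map_zero, pow_zero, ne_eq, OfNat.ofNat_ne_zero, not_false_eq_true,
      zero_pow, mul_one, one_mul]
    rw [← two_mul, hK.two, zero_mul]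
  rw [h, mul_inv_cancel_right]

theorem cx_z4 (g : U) : g * T.x4 0 1 * g⁻¹ = T.x4 0 1 := by
  rw [comm_Z4 hK, mul_inv_cancel_right]

/-- the elements of `V` -/
theorem mem_V2 {g : U} (hg : g ∈ T.V) : g = 1 ∨ g = T.x4 0 1 ∨ g = T.x6 0 1 ∨ g = T.x4 0 1 * T.x6 0 1 := by
  rw [mem_V hK] at hg
  obtain ⟨v1, v2, v3, v4, v5, v6, v7, v8, v9, v10⟩ := hg
  have key : ∀ c : Cd K, c.a1 = 0 → c.a2 = 0 → c.b2 = 0 → c.a3 = 0 → c.a4 = 0 → c.a5 = 0 → c.a6 = 0 → c.a7 = 0 → c.a8 = 0 →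
      c.b8 = 0 → c = ⟨0, 0, 0, 0, 0, c.b4, 0, 0, c.b6, 0, 0, 0⟩ := by
    intro c h1 h2 h3 h4 h5 h6 h7 h8 h9 h10
    ext <;> simp only [h1, h2, h3, h4, h5, h6, h7, h8, h9, h10]
  have h := key _ v1 v2 v3 v4 v5 v6 v7 v8 v9 v10
  have aux : ∀ g' : U, co T g' = ⟨0, 0, 0, 0, 0, (co T g).b4, 0, 0, (co T g).b6, 0, 0, 0⟩ → g = g' := fun g' h' =>
    co_injective T (h.trans h'.symm)
  rcases k01 hK (co T g).b4 with b4 | b4 <;> rcases k01 hK (co T g).b6 with b6 | b6 <;> rw [b4, b6] at aux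
  · left; exact aux 1 (co_one T)
  · right; right; left; exact aux _ (co_x6 T 0 1)
  · right; left; exact aux _ (co_x4 T 0 1)
  · right; right; right
    apply aux
    rw [co_mul hK, co_x4, co_x6]
    ext <;> simp only [e4, e6, mul_a1, mul_a2, mul_b2, mul_a3, mul_a4, mul_b4, mul_a5, mul_a6, mul_b6, mul_a7, mul_a8,
      mul_b8, zero_mul, mul_zero, add_zero, zero_add, map_zero, pow_zero, ne_eq, OfNat.ofNat_ne_zero, not_false_eq_true,
      zero_pow, mul_one, one_mul]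

omit hK in
theorem z4_ne : T.x4 0 1 ≠ 1 := by
  intro h
  have h1 := congrArg (fun g => (co T g).b4) h
  simp only [co_x4, e4, co_one] at h1
  exact one_ne_zero h1

omit hK in
theorem z6_ne : T.x6 0 1 ≠ 1 := by
  intro h
  have h1 := congrArg (fun g => (co T g).b6) h
  simp only [co_x6, e6, co_one] at h1
  exact one_ne_zero h1

omit hK in
theorem z46_ne : T.x4 0 1 ≠ T.x6 0 1 := by
  intro h
  have h1 := congrArg (fun g => (co T g).b4) h
  simp only [co_x4, co_x6, e4, e6] at h1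
  exact one_ne_zero h1

end

/-- **the B-side** -/
theorem stB2_of (hfin : StFinB.{u, v}) : StB2.{u, v} := by
  classical
  intro K _ σ hK U _ T Γb hPar
  have := finite_U hK T
  have hVQ : T.V ≤ T.QB := V_le_QB hK T
  have z4V : T.x4 0 1 ∈ T.V := Z4_le_V T (x4_mem_Z T 1)
  have z6V : T.x6 0 1 ∈ T.V := Z6_le_V T (x6_mem_Z T 1)
  -- the three involutions of `V`
  let v : Fin 3 → T.QB := ![⟨T.x4 0 1, hVQ z4V⟩, ⟨T.x6 0 1, hVQ z6V⟩, ⟨T.x4 0 1 * T.x6 0 1, hVQ (mul_mem z4V z6V)⟩]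
  have v0 : ((v 0 : T.QB) : U) = T.x4 0 1 := rfl
  have v1 : ((v 1 : T.QB) : U) = T.x6 0 1 := rfl
  have v2 : ((v 2 : T.QB) : U) = T.x4 0 1 * T.x6 0 1 := rfl
  have hvV : ∀ i, ((v i : T.QB) : U) ∈ T.V := by
    intro i
    fin_cases i
    · exact z4V
    · exact z6V
    · exact mul_mem z4V z6V
  have hv1 : ∀ i, v i ≠ 1 := by
    intro i h
    have h' : ((v i : T.QB) : U) = 1 := by rw [h]; rfl
    fin_cases i
    · exact z4_ne T h'
    · exact z6_ne T h'
    · have h3 : T.x4 0 1 * T.x6 0 1 = 1 := h'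
      have h4 : T.x4 0 1 * T.x4 0 1 = 1 := sq_A37 hK T (V_le_A37 hK T z4V)
      exact z46_ne T (mul_left_cancel (h4.trans h3.symm))
  have hinj : Function.Injective v := by
    intro i j hij
    have h := congrArg (fun e : T.QB => (e : U)) hij
    have n1 := z4_ne T
    have n2 := z6_ne T
    have n3 := z46_ne T
    have a1 : T.x4 0 1 ≠ T.x4 0 1 * T.x6 0 1 := fun h => n2 (mul_eq_left.1 h.symm)
    have a2 : T.x6 0 1 ≠ T.x4 0 1 * T.x6 0 1 := fun h => n1 (mul_eq_right.1 h.symm)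
    fin_cases i <;> fin_cases j
    · rfl
    · exact absurd h n3
    · exact absurd h a1
    · exact absurd h.symm n3
    · rfl
    · exact absurd h a2
    · exact absurd h.symm a1
    · exact absurd h.symm a2
    · rfl
  have hVv : ∀ e : T.QB, (e : U) ∈ T.V → e = 1 ∨ ∃ i, e = v i := by
    intro e he
    rcases mem_V2 hK T he with h | h | h | h
    · exact Or.inl (Subtype.ext h)
    · exact Or.inr ⟨0, Subtype.ext h⟩
    · exact Or.inr ⟨1, Subtype.ext h⟩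
    · exact Or.inr ⟨2, Subtype.ext h⟩
  have hVcen : ∀ e : T.QB, (e : U) ∈ T.V ↔ ∀ x : T.QB, x * e = e * x := by
    intro e
    rw [Cfsg.Agent.H181.TF.center_QB hK T]
    constructor
    · rintro ⟨-, h⟩ x
      exact Subtype.ext (h x x.2)
    · intro h
      exact ⟨e.2, fun y hy => congrArg Subtype.val (h ⟨y, hy⟩)⟩
  have hVγ : ∀ (γ : MulAut T.QB) (e : T.QB), (e : U) ∈ T.V → ((γ e : T.QB) : U) ∈ T.V := by
    intro γ e he
    rw [hVcen] at he ⊢
    intro x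
    obtain ⟨x', rfl⟩ := γ.surjective x
    rw [← map_mul, he, map_mul]
  obtain ⟨φ, hφ⟩ := exists_phi v hinj (by
    intro γ i
    rcases hVv _ (hVγ γ _ (hvV i)) with h | h
    · exact absurd ((map_eq_one_iff γ γ.injective).1 h) (hv1 i)
    · exact h)
  -- the automorphisms
  obtain ⟨cx, hcx⟩ := exists_cj T hK (T.x1 1)
  obtain ⟨w0, hw0⟩ := Cfsg.Agent.H805.TF.exists_wb T hK
  have hcx2 : cx * cx = 1 := by
    apply MulEquiv.ext
    intro e
    apply Subtype.ext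
    rw [MulAut.mul_apply, hcx, hcx]
    have hxi : (T.x1 1)⁻¹ = T.x1 1 := inv_eq_of_mul_eq_one_left (x1_sq hK T)
    rw [hxi, show T.x1 1 * (T.x1 1 * (e : U) * T.x1 1) * T.x1 1 = (T.x1 1 * T.x1 1) * (e : U) * (T.x1 1 * T.x1 1) by group,
      x1_sq hK T, one_mul, mul_one]
    rfl
  have hcxi : cx⁻¹ = cx := inv_eq_of_mul_eq_one_left hcx2
  have hw2 : w0 * w0 = 1 := wb_sq T hK hw0
  have hρ3 : (cx * w0) * (cx * w0) * (cx * w0) = 1 := stRhoB hK T cx w0 hcx hw0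
  have hcxz : φ cx 0 = 0 := by
    apply hinj
    rw [← hφ]
    apply Subtype.ext
    rw [hcx, v0, cx_z4 hK]
  have hcx1 : φ cx 1 = 2 := by
    apply hinj
    rw [← hφ]
    apply Subtype.ext
    rw [hcx, v1, v2, cx_z6 hK]
  have hρz : φ (cx * w0) 0 = 2 := by
    apply hinj
    rw [← hφ]
    apply Subtype.ext
    rw [MulAut.mul_apply, hcx, hw0.e4 (v 0) 0 1 rfl, v2, cx_z6 hK]
  have hInnφ : ∀ i ∈ Inn T.QB, φ i = 1 := by
    rintro _ ⟨g, rfl⟩
    apply Equiv.ext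
    intro i
    apply hinj
    rw [← hφ]
    apply Subtype.ext
    change (g : U) * (v i : U) * (g : U)⁻¹ = (v i : U)
    rw [comm_QB_V hK T g.2 (hvV i), mul_inv_cancel_right]
  have hInnN : (Inn T.QB).Normal := by
    refine ⟨?_⟩
    rintro _ ⟨g, rfl⟩ γ
    refine ⟨γ g, MulEquiv.ext fun e => ?_⟩
    change γ g * e * (γ g)⁻¹ = γ (g * γ⁻¹ e * g⁻¹)
    rw [map_mul, map_mul, map_inv, MulAut.apply_inv_self]
  -- `P = Aut_U(QB)`
  have hcxP : cx ∈ autInducedBy ⊤ T.QB := (mem_autInducedBy_iff _ _ _).2 ⟨T.x1 1, Subgroup.mem_top _, hcx⟩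
  have hIP : Inn T.QB ≤ autInducedBy ⊤ T.QB := by
    rintro _ ⟨g, rfl⟩
    exact (mem_autInducedBy_iff _ _ _).2 ⟨g, Subgroup.mem_top _, fun e => rfl⟩
  have hP : ∀ p ∈ autInducedBy ⊤ T.QB, p ∈ Inn T.QB ∨ cx * p ∈ Inn T.QB := by
    intro p hp
    obtain ⟨g, -, hg⟩ := (mem_autInducedBy_iff _ _ _).1 hp
    by_cases h : g ∈ T.QB
    · exact Or.inl (mem_innB T h hg)
    · right
      refine mem_innB T (g := T.x1 1 * g) ?_ ?_
      · have h1 := idx2 hK T (x1_not_mem hK T) h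
        rwa [inv_eq_of_mul_eq_one_left (x1_sq hK T)] at h1
      · intro e
        rw [MulAut.mul_apply, hcx, hg]; group
  have hZ4 : ∀ γ : MulAut T.QB, γ (v 0) = v 0 → ∀ x : T.QB, (x : U) ∈ T.Z4 → ((γ x : T.QB) : U) ∈ T.Z4 := by
    intro γ h1 x hx
    rw [mem_Z4 hK T] at hx
    obtain ⟨t, ht⟩ := hx
    rcases k01 hK t with h | h
    · rw [h, x4_zero] at ht
      have h3 : x = 1 := Subtype.ext ht
      rw [h3, map_one]
      exact T.Z4.one_mem
    · rw [h] at ht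
      have h3 : x = v 0 := Subtype.ext ht
      rw [h3, h1, v0]
      exact x4_mem_Z T 1
  have hΓz : ∀ γ ∈ Γb, φ γ 0 = 0 → γ ∈ autInducedBy ⊤ T.QB := by
    intro γ hγ h0
    have h1 : γ (v 0) = v 0 := by rw [hφ, h0]
    have hna : NormAut (⊤ : Subgroup U) γ := Cfsg.Agent.H181.TF.tiB' hK T hPar.indu hPar.syl hγ (hZ4 γ h1)
    obtain ⟨x, d, hd, hx⟩ := hPar.norm γ hγ hna
    rw [Subgroup.mem_bot] at hd
    subst hd
    exact (mem_autInducedBy_iff _ _ _).2 ⟨x, Subgroup.mem_top _, hx⟩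
  have hΓn : ∃ γ ∈ Γb, φ γ 0 ≠ 0 := by
    by_contra hh
    push Not at hh
    apply hPar.nn
    intro γ hγ x hx
    have h1 := hΓz γ hγ (hh γ hγ)
    exact mul_mem (mul_mem h1 hx) (inv_mem h1)
  obtain ⟨c, hcP, hcΓ, hcI⟩ := wrap φ (by
      intro a ha
      have h1 : a (v 0) = v 0 := by rw [hφ, ha]
      exact Cfsg.Agent.H181.TF.pow_B hK T a (hZ4 a h1))
    (Inn T.QB) (autInducedBy ⊤ T.QB) Γb hInnN hInnφ cx (cx * w0) hcxP hP hIP hcx2 hcxz
    (by
      intro h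
      rw [h] at hcx1
      exact absurd hcx1 (by decide))
    hρ3 (by rw [hρz]; decide)
    (by
      rw [hcxi, ← mul_assoc, hcx2, one_mul, mul_inv_rev, hcxi, inv_eq_of_mul_eq_one_left hw2])
    hPar.indu hΓz hΓn
    (by
      intro s hs hs1 hi
      refine hfin hK T cx w0 (cx * w0) s hcx hw0 rfl hs (fun e he => ?_) hi
      rcases hVv e he with h | ⟨i, rfl⟩
      · rw [h, map_one]
      · rw [hφ, hs1]; rfl)
  -- `LamB`
  have hLam : autInducedBy ⊤ T.QB ⊔ Subgroup.zpowers (cx * w0) = T.LamB := by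
    unfold TF.LamB
    apply le_antisymm
    · refine sup_le le_sup_left ?_
      rw [Subgroup.zpowers_le]
      exact mul_mem (Subgroup.mem_sup_left hcxP) (Subgroup.mem_sup_right (Subgroup.subset_closure hw0))
    · refine sup_le le_sup_left ?_
      rw [Subgroup.closure_le]
      intro γ hγ
      rw [wb_unique T hK hγ hw0]
      have h5 : cx⁻¹ * (cx * w0) ∈ autInducedBy ⊤ T.QB ⊔ Subgroup.zpowers (cx * w0) :=
        mul_mem (inv_mem (Subgroup.mem_sup_left hcxP)) (Subgroup.mem_sup_right (Subgroup.mem_zpowers _))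
      rwa [inv_mul_cancel_left] at h5
  -- the extension
  obtain ⟨y, -, hy⟩ := (mem_autInducedBy_iff _ _ _).1 ((hcP cx).1 hcxP)
  have hyQ : y ∉ T.QB := fun h => hcI (mem_innB T h hy)
  have hyc : ∀ z : U, z ∈ T.V → ∀ e : T.QB, (((c * cx * c⁻¹) e : T.QB) : U) = (y * z) * e * (y * z)⁻¹ := by
    intro z hz e
    rw [hy, show (y * z) * (e : U) * (y * z)⁻¹ = y * (z * e * z⁻¹) * y⁻¹ by group, ← comm_QB_V hK T e.2 hz,
      mul_inv_cancel_right]
  have hyV : y * y ∈ T.V := by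
    rw [Cfsg.Agent.H181.TF.center_QB hK T]
    refine ⟨?_, ?_⟩
    · have h1 := idx2 hK T (fun h => hyQ (by have := T.QB.inv_mem h; rwa [inv_inv] at this) : y⁻¹ ∉ T.QB) hyQ
      rwa [inv_inv] at h1
    · intro x hx
      have h1 : (c * cx * c⁻¹) * (c * cx * c⁻¹) = 1 := by
        rw [show (c * cx * c⁻¹) * (c * cx * c⁻¹) = c * (cx * cx) * c⁻¹ by group, hcx2]; group
      have h2 : ((((c * cx * c⁻¹) * (c * cx * c⁻¹) : MulAut T.QB) ⟨x, hx⟩ : T.QB) : U) = x := by rw [h1]; rfl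
      have h3 : y * (y * x * y⁻¹) * y⁻¹ = x := by
        have hm : ((c * cx * c⁻¹) * (c * cx * c⁻¹) : MulAut T.QB) ⟨x, hx⟩ =
            (c * cx * c⁻¹) ((c * cx * c⁻¹) ⟨x, hx⟩) := rfl
        rw [hm, hy, hy] at h2
        exact h2
      have h4 : y * y * x = x * (y * y) := by
        calc y * y * x = (y * (y * x * y⁻¹) * y⁻¹) * (y * y) := by group
          _ = x * (y * y) := by rw [h3]
      exact h4.symm
  -- `y` inverts nothing on `V` but moves `z6`
  have hyz6 : y * T.x6 0 1 * y⁻¹ = T.x4 0 1 * T.x6 0 1 := by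
    have h1 := idx2 hK T (x1_not_mem hK T) hyQ
    set e := (T.x1 1)⁻¹ * y with he
    have h2 : y = T.x1 1 * e := by rw [he, mul_inv_cancel_left]
    rw [h2, show T.x1 1 * e * T.x6 0 1 * (T.x1 1 * e)⁻¹ = T.x1 1 * (e * T.x6 0 1 * e⁻¹) * (T.x1 1)⁻¹ by group,
      comm_QB_V hK T h1 z6V, mul_inv_cancel_right, cx_z6 hK]
  have hz66 : T.x6 0 1 * T.x6 0 1 = 1 := sq_A37 hK T (V_le_A37 hK T z6V)
  have hz44 : T.x4 0 1 * T.x4 0 1 = 1 := sq_A37 hK T (V_le_A37 hK T z4V)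
  obtain ⟨z, hz, hyz⟩ : ∃ z ∈ T.V, (y * z) * (y * z) = 1 := by
    have hcomm : y * (y * y) = (y * y) * y := by group
    rcases mem_V2 hK T hyV with h | h | h | h
    · exact ⟨1, T.V.one_mem, by rw [mul_one, h]⟩
    · refine ⟨T.x6 0 1, z6V, ?_⟩
      have h5 : y * T.x6 0 1 = T.x4 0 1 * T.x6 0 1 * y := by rw [← hyz6]; group
      calc y * T.x6 0 1 * (y * T.x6 0 1) = y * T.x6 0 1 * (T.x4 0 1 * T.x6 0 1 * y) := by rw [← h5]
        _ = y * (T.x6 0 1 * T.x4 0 1 * T.x6 0 1) * y := by group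
        _ = y * T.x4 0 1 * y := by rw [comm_Z4 hK, mul_assoc (T.x4 0 1), hz66, mul_one]
        _ = T.x4 0 1 * (y * y) := by rw [comm_Z4 hK]; group
        _ = 1 := by rw [h, hz44]
    · exfalso
      rw [h] at hcomm
      have h5 : y * T.x6 0 1 * y⁻¹ = T.x6 0 1 := by rw [hcomm, mul_inv_cancel_right]
      rw [hyz6] at h5
      exact z4_ne T (mul_eq_right.1 h5)
    · exfalso
      rw [h] at hcomm
      have h5 : y * (T.x4 0 1 * T.x6 0 1) * y⁻¹ = T.x4 0 1 * T.x6 0 1 := by rw [hcomm, mul_inv_cancel_right]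
      have h6 : y * (T.x4 0 1 * T.x6 0 1) * y⁻¹ = (y * T.x4 0 1 * y⁻¹) * (y * T.x6 0 1 * y⁻¹) := by group
      rw [h6, cx_z4 hK, hyz6, ← mul_assoc, hz44, one_mul] at h5
      exact z4_ne T (mul_eq_right.1 h5.symm)
  obtain ⟨θ, hθ⟩ := ext2 T.QB (T.x1 1) (y * z) (x1_not_mem hK T)
    (fun h => hyQ (by have := T.QB.mul_mem h (T.QB.inv_mem (hVQ hz)); rwa [mul_inv_cancel_right] at this))
    (fun g hg => idx2 hK T (x1_not_mem hK T) hg) (x1_sq hK T) hyz c
    (fun e he => (QB_normal hK T).conj_mem e he _)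
    (by
      intro e e' he'
      have h1 : e' = cx e := Subtype.ext (by rw [he', hcx])
      have h2 := hyc z hz (c e)
      rw [MulAut.mul_apply, MulAut.mul_apply, MulAut.inv_apply_self] at h2
      rw [h1, h2])
  refine ⟨θ, fun γ γ' hγ => ?_⟩
  have e1 : γ' = c * γ * c⁻¹ := by
    apply MulEquiv.ext
    intro e'
    obtain ⟨e, rfl⟩ := c.surjective e'
    apply Subtype.ext
    rw [hγ e (c e) (hθ e).symm, hθ, MulAut.mul_apply, MulAut.mul_apply, MulAut.inv_apply_self]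
  rw [hcΓ, hLam, e1]

end Cfsg.Agent.H240.TF
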