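import Mathlib

/-!
# S5262, `q = 2`, B-side: the group-theoretic wrap (helper240)
-/

set_option autoImplicit false

namespace Cfsg.Agent.H240.TF

/-! ### Elements of order 3 -/

section syl

variable {A : Type*} [Group A] [Finite A]

/-- in a subgroup `J` of a group of order dividing `3 * 2 ^ k`, elements of order 3 generate conjugate subgroups -/
theorem conj3 {k : ℕ} (hA : Nat.card A ∣ 3 * 2 ^ k) (J : Subgroup A) {a b : A} (ha : a ∈ J) (hb : b ∈ J)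
    (h3a : orderOf a = 3) (h3b : orderOf b = 3) : ∃ g ∈ J, g * a * g⁻¹ = b ∨ g * a * g⁻¹ = b⁻¹ := by
  have : Fact (Nat.Prime 3) := ⟨Nat.prime_three⟩
  have hJ : Nat.card J ∣ 3 * 2 ^ k := (Subgroup.card_subgroup_dvd_card J).trans hA
  have key : ∀ x : A, x ∈ J → orderOf x = 3 → ∃ P : Sylow 3 J, ∀ y : J, y ∈ P ↔ (y : A) ∈ Subgroup.zpowers x := by
    intro x hx h3
    let x' : J := ⟨x, hx⟩
    have h3' : orderOf x' = 3 := by rw [← h3]; exact (Subgroup.orderOf_coe x').symm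
    have hc : Nat.card (Subgroup.zpowers x') = 3 := by rw [Nat.card_zpowers, h3']
    have hp : IsPGroup 3 (Subgroup.zpowers x') := IsPGroup.of_card (n := 1) (by rw [hc, pow_one])
    have hi : ¬ 3 ∣ (Subgroup.zpowers x').index := by
      intro hd
      have h1 : 3 * (Subgroup.zpowers x').index = Nat.card J := by
        rw [← hc]; exact Subgroup.card_mul_index _
      have h2 : 3 * 3 ∣ 3 * 2 ^ k := by
        refine (Nat.mul_dvd_mul_left 3 hd).trans ?_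
        rw [h1]; exact hJ
      have h4 : 3 ∣ 2 ^ k := Nat.dvd_of_mul_dvd_mul_left (by norm_num) h2
      have h5 := Nat.prime_three.dvd_of_dvd_pow h4
      omega
    refine ⟨hp.toSylow hi, fun y => ?_⟩
    change y ∈ Subgroup.zpowers x' ↔ _
    rw [Subgroup.mem_zpowers_iff, Subgroup.mem_zpowers_iff]
    constructor
    · rintro ⟨n, rfl⟩
      exact ⟨n, rfl⟩
    · rintro ⟨n, hn⟩
      exact ⟨n, Subtype.ext hn⟩
  obtain ⟨P, hP⟩ := key a ha h3a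
  obtain ⟨Q, hQ⟩ := key b hb h3b
  obtain ⟨g, hg⟩ := MulAction.exists_smul_eq J P Q
  refine ⟨g, g.2, ?_⟩
  have h1 : (g * ⟨a, ha⟩ * g⁻¹ : J) ∈ Q := by
    rw [← hg]
    have : (⟨a, ha⟩ : J) ∈ P := (hP _).2 (Subgroup.mem_zpowers a)
    exact (Subgroup.mem_pointwise_smul_iff_inv_smul_mem).2 (by
      rw [← map_inv]
      change g⁻¹ * (g * ⟨a, ha⟩ * g⁻¹) * (g⁻¹)⁻¹ ∈ (P : Subgroup J)
      rw [show g⁻¹ * (g * ⟨a, ha⟩ * g⁻¹) * (g⁻¹)⁻¹ = (⟨a, ha⟩ : J) by group]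
      exact this)
  obtain ⟨n, hn⟩ := Subgroup.mem_zpowers_iff.1 ((hQ _).1 h1)
  have hn' : b ^ n = (g : A) * a * (g : A)⁻¹ := hn
  have hn3 : b ^ (n % 3) = (g : A) * a * (g : A)⁻¹ := by
    rw [← hn', ← zpow_mod_orderOf b n, h3b]; rfl
  have hne : (g : A) * a * (g : A)⁻¹ ≠ 1 := by
    intro h
    have : a = 1 := by
      have h2 : (g : A)⁻¹ * ((g : A) * a * (g : A)⁻¹) * g = 1 := by rw [h]; group
      rwa [show (g : A)⁻¹ * ((g : A) * a * (g : A)⁻¹) * g = a by group] at h2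
    rw [this, orderOf_one] at h3a
    omega
  have hb3 : b ^ 3 = 1 := by rw [← h3b]; exact pow_orderOf_eq_one b
  have hcases : n % 3 = 0 ∨ n % 3 = 1 ∨ n % 3 = 2 := by omega
  rcases hcases with h | h | h
  · rw [h, zpow_zero] at hn3
    exact absurd hn3.symm hne
  · rw [h, zpow_one] at hn3
    exact Or.inl hn3.symm
  · rw [h] at hn3
    right
    rw [← hn3]
    have : b ^ (2 : ℤ) = b ^ 2 := by norm_cast
    rw [this, eq_inv_iff_mul_eq_one, ← pow_succ, hb3]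

end syl

/-! ### `Perm (Fin 3)` -/

theorem p3_cx : ∀ a : Equiv.Perm (Fin 3), a 0 = 0 → a ≠ 1 → a = Equiv.swap 1 2 := by decide

theorem p3_cyc : ∀ a : Equiv.Perm (Fin 3), a 0 ≠ 0 → a * a * a = 1 ∨
    ((a * Equiv.swap 1 2 : Equiv.Perm (Fin 3)) 0 ≠ 0 ∧
      (a * Equiv.swap 1 2) * (a * Equiv.swap 1 2) * (a * Equiv.swap 1 2) = 1) := by decide

theorem p3_conj : ∀ r : Equiv.Perm (Fin 3), r * r * r = 1 → Equiv.swap 1 2 * r * (Equiv.swap 1 2)⁻¹ = r⁻¹ := by decide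

theorem p3_ne : ∀ r : Equiv.Perm (Fin 3), r 0 ≠ 0 → r * r * r = 1 → r ≠ r⁻¹ := by decide

theorem p3_tr : ∀ r : Equiv.Perm (Fin 3), r 0 ≠ 0 → r * r * r = 1 → ∀ x : Fin 3, x = 0 ∨ r x = 0 ∨ (r * r) x = 0 := by
  decide

theorem p3_two {r : Equiv.Perm (Fin 3)} (h0 : r ≠ 1) (h3 : r * r * r = 1) (n : ℕ) : r ^ 2 ^ n ≠ 1 := by
  have h : ∀ n : ℕ, r ^ 2 ^ n = r ∨ r ^ 2 ^ n = r⁻¹ := by
    intro n
    induction n with
    | zero => left; rw [pow_zero, pow_one]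
    | succ n ih =>
      rw [pow_succ, pow_mul]
      have e : r * r = r⁻¹ := by rw [eq_inv_iff_mul_eq_one, h3]
      rcases ih with h | h
      · right; rw [h, sq, e]
      · left; rw [h, sq, ← mul_inv_rev, e, inv_inv]
  rcases h n with h | h
  · rw [h]; exact h0
  · rw [h]; exact inv_ne_one.2 h0

/-! ### The wrap -/

theorem wrap {A : Type*} [Group A] [Finite A] (φ : A →* Equiv.Perm (Fin 3))
    (hstab : ∀ a : A, φ a 0 = 0 → ∃ n : ℕ, a ^ 2 ^ n = 1)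
    (I P Γ : Subgroup A) (hI : I.Normal) (hIφ : ∀ i ∈ I, φ i = 1)
    (cx ρ0 : A) (hcx : cx ∈ P) (hP : ∀ p ∈ P, p ∈ I ∨ cx * p ∈ I) (hIP : I ≤ P) (hcx2 : cx * cx = 1)
    (hcxz : φ cx 0 = 0) (hcxn : φ cx ≠ 1) (hρ3 : ρ0 * ρ0 * ρ0 = 1) (hρz : φ ρ0 0 ≠ 0)
    (hinv : cx * ρ0 * cx⁻¹ = ρ0⁻¹) (hPΓ : P ≤ Γ) (hΓz : ∀ γ ∈ Γ, φ γ 0 = 0 → γ ∈ P) (hΓn : ∃ γ ∈ Γ, φ γ 0 ≠ 0)
    (hfin : ∀ s : A, s * ρ0 = ρ0 * s → φ s = 1 → (∃ i ∈ I, (s * cx * i) * (s * cx * i) = 1) → s ∈ I) :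
    ∃ c : A, (∀ p, p ∈ P ↔ c * p * c⁻¹ ∈ P) ∧ (∀ γ, γ ∈ Γ ↔ c * γ * c⁻¹ ∈ P ⊔ Subgroup.zpowers ρ0) ∧
      c * cx * c⁻¹ ∉ I := by
  have : Fact (Nat.Prime 2) := ⟨Nat.prime_two⟩
  have : Fact (Nat.Prime 3) := ⟨Nat.prime_three⟩
  have hcxs : φ cx = Equiv.swap 1 2 := p3_cx _ hcxz hcxn
  have hφρ : φ ρ0 * φ ρ0 * φ ρ0 = 1 := by rw [← map_mul, ← map_mul, hρ3, map_one]
  have hρ1 : ρ0 ≠ 1 := by
    rintro rfl
    rw [map_one] at hρz
    exact hρz rfl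
  have ho : ∀ x : A, x * x * x = 1 → x ≠ 1 → orderOf x = 3 := by
    intro x h3 h1
    exact orderOf_eq_prime (by rw [pow_succ, sq, h3]) h1
  have hoρ : orderOf ρ0 = 3 := ho _ hρ3 hρ1
  have hcxi : cx⁻¹ = cx := inv_eq_of_mul_eq_one_left hcx2
  -- the order of `A`
  obtain ⟨k, hk⟩ : ∃ k, Nat.card A ∣ 3 * 2 ^ k := by
    have hker : IsPGroup 2 φ.ker := by
      rintro ⟨a, ha⟩
      rw [MonoidHom.mem_ker] at ha
      obtain ⟨n, hn⟩ := hstab a (by rw [ha]; rfl)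
      exact ⟨n, Subtype.ext hn⟩
    obtain ⟨n, hn⟩ := IsPGroup.iff_card.1 hker
    refine ⟨n + 1, ?_⟩
    have h1 : Nat.card A = Nat.card φ.ker * Nat.card φ.range := by
      rw [mul_comm, ← Nat.card_congr (QuotientGroup.quotientKerEquivRange φ).toEquiv]
      exact Subgroup.card_eq_card_quotient_mul_card_subgroup φ.ker
    have h2 : Nat.card φ.range ∣ 6 := by
      refine (Subgroup.card_subgroup_dvd_card φ.range).trans ?_
      rw [Nat.card_eq_fintype_card, Fintype.card_perm, Fintype.card_fin]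
      decide
    rw [h1, hn]
    have h3 : 3 * 2 ^ (n + 1) = 2 ^ n * 6 := by ring
    rw [h3]
    exact Nat.mul_dvd_mul_left _ h2
  -- an element `ρ` of order 3 in `Γ`
  obtain ⟨ρ, hρΓ, hρ1', hρ3'⟩ : ∃ ρ ∈ Γ, φ ρ ≠ 1 ∧ ρ * ρ * ρ = 1 := by
    obtain ⟨γ1, hγ1, h0, h3⟩ : ∃ γ1 ∈ Γ, φ γ1 0 ≠ 0 ∧ φ γ1 * φ γ1 * φ γ1 = 1 := by
      obtain ⟨γ, hγ, hγ0⟩ := hΓn
      rcases p3_cyc _ hγ0 with h | ⟨h, h'⟩
      · exact ⟨γ, hγ, hγ0, h⟩
      · refine ⟨γ * cx, Γ.mul_mem hγ (hPΓ hcx), ?_, ?_⟩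
        · rw [map_mul, hcxs]; exact h
        · rw [map_mul, hcxs]; exact h'
    obtain ⟨n, hn⟩ := hstab (γ1 * γ1 * γ1) (by rw [map_mul, map_mul, h3]; rfl)
    have h1 : φ γ1 ≠ 1 := by
      intro h
      rw [h] at h0
      exact h0 rfl
    refine ⟨γ1 ^ 2 ^ n, Γ.pow_mem hγ1 _, ?_, ?_⟩
    · rw [map_pow]; exact p3_two h1 h3 n
    · rw [← pow_add, ← pow_add, ← two_mul, ← Nat.succ_mul, mul_comm, pow_mul] at *
      have e : γ1 * γ1 * γ1 = γ1 ^ 3 := by rw [pow_succ, sq]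
      rw [e, ← pow_mul] at hn
      rw [← hn, ← pow_mul]
      congr 1
      ring
  have hρn : ρ ≠ 1 := by
    rintro rfl
    exact hρ1' (map_one φ)
  -- conjugate
  obtain ⟨c0, -, hc0⟩ := conj3 hk ⊤ (Subgroup.mem_top ρ) (Subgroup.mem_top ρ0) (ho _ hρ3' hρn) hoρ
  obtain ⟨c, hcz, hc⟩ : ∃ c : A, φ c 0 = 0 ∧ (c * ρ * c⁻¹ = ρ0 ∨ c * ρ * c⁻¹ = ρ0⁻¹) := by
    have aux : ∀ j : ℕ, (ρ0 ^ j * c0) * ρ * (ρ0 ^ j * c0)⁻¹ = ρ0 ∨ (ρ0 ^ j * c0) * ρ * (ρ0 ^ j * c0)⁻¹ = ρ0⁻¹ := by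
      intro j
      have e : (ρ0 ^ j * c0) * ρ * (ρ0 ^ j * c0)⁻¹ = ρ0 ^ j * (c0 * ρ * c0⁻¹) * (ρ0 ^ j)⁻¹ := by group
      rw [e]
      rcases hc0 with h | h
      · left; rw [h, ← pow_succ, pow_succ', mul_inv_cancel_right]
      · right; rw [h]; group
    rcases p3_tr (φ ρ0) hρz hφρ (φ c0 0) with h | h | h
    · exact ⟨ρ0 ^ 0 * c0, by rw [map_mul, pow_zero, map_one]; exact h, aux 0⟩
    · exact ⟨ρ0 ^ 1 * c0, by rw [map_mul, pow_one]; exact h, aux 1⟩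
    · exact ⟨ρ0 ^ 2 * c0, by rw [map_mul, sq, map_mul]; exact h, aux 2⟩
  set t0 := c * cx * c⁻¹ with ht0
  have hφt0 : φ t0 = Equiv.swap 1 2 := by
    apply p3_cx
    · rw [ht0, map_mul, map_mul]
      change φ c (φ cx (φ c⁻¹ 0)) = 0
      have h1 : φ c⁻¹ 0 = 0 := by
        rw [map_inv]
        exact Equiv.Perm.inv_eq_iff_eq.2 hcz.symm
      rw [h1, hcxz, hcz]
    · rw [ht0, map_mul, map_mul, map_inv]
      intro h
      apply hcxn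
      have : φ cx = (φ c)⁻¹ * (φ c * φ cx * (φ c)⁻¹) * φ c := by group
      rw [this, h]; group
  -- `c⁻¹ ρ0 c ∈ Γ`
  have hρΓ' : c⁻¹ * ρ0 * c ∈ Γ := by
    rcases hc with h | h
    · rw [← h, show c⁻¹ * (c * ρ * c⁻¹) * c = ρ by group]; exact hρΓ
    · have e : ρ0 = (c * ρ * c⁻¹)⁻¹ := by rw [h, inv_inv]
      rw [e, show c⁻¹ * (c * ρ * c⁻¹)⁻¹ * c = ρ⁻¹ by group]; exact Γ.inv_mem hρΓ
  have hkerP : ∀ γ ∈ Γ, φ γ = 1 → γ ∈ I := by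
    intro γ hγ h1
    rcases hP γ (hΓz γ hγ (by rw [h1]; rfl)) with h | h
    · exact h
    · exfalso
      have h2 := hIφ _ h
      rw [map_mul, h1, mul_one] at h2
      exact hcxn h2
  have hconjI : ∀ x : A, ∀ i ∈ I, x * i * x⁻¹ ∈ I := fun x i hi => hI.conj_mem i hi x
  have hφc : ∀ x : A, φ (c * x * c⁻¹) = 1 ↔ φ x = 1 := by
    intro x
    rw [map_mul, map_mul, map_inv]
    constructor
    · intro h
      have : φ x = (φ c)⁻¹ * (φ c * φ x * (φ c)⁻¹) * φ c := by group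
      rw [this, h]; group
    · intro h; rw [h]; group
  -- `t0 ρ0 t0⁻¹ ρ0 ∈ I`
  have hJ1 : t0 * ρ0 * t0⁻¹ * ρ0 ∈ I := by
    have e : t0 * ρ0 * t0⁻¹ * ρ0 = c * (cx * (c⁻¹ * ρ0 * c) * cx⁻¹ * (c⁻¹ * ρ0 * c)) * c⁻¹ := by
      rw [ht0]; group
    have h1 : φ (t0 * ρ0 * t0⁻¹ * ρ0) = 1 := by
      rw [map_mul, map_mul, map_mul, map_inv, hφt0, p3_conj _ hφρ, inv_mul_cancel]
    rw [e] at h1 ⊢
    rw [hφc] at h1
    refine hconjI c _ (hkerP _ ?_ h1)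
    exact Γ.mul_mem (Γ.mul_mem (Γ.mul_mem (hPΓ hcx) hρΓ') (Γ.inv_mem (hPΓ hcx))) hρΓ'
  -- Sylow in `I ⟨ρ0⟩`
  obtain ⟨g, hg, hgc⟩ := conj3 hk (I ⊔ Subgroup.zpowers ρ0) (a := t0 * ρ0 * t0⁻¹) (b := ρ0) (by
      have e : t0 * ρ0 * t0⁻¹ = (t0 * ρ0 * t0⁻¹ * ρ0) * ρ0⁻¹ := by group
      rw [e]
      exact mul_mem (Subgroup.mem_sup_left hJ1) (Subgroup.mem_sup_right (inv_mem (Subgroup.mem_zpowers ρ0))))
    (Subgroup.mem_sup_right (Subgroup.mem_zpowers ρ0)) (by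
      apply ho
      · rw [show t0 * ρ0 * t0⁻¹ * (t0 * ρ0 * t0⁻¹) * (t0 * ρ0 * t0⁻¹) = t0 * (ρ0 * ρ0 * ρ0) * t0⁻¹ by group, hρ3]
        group
      · intro h
        apply hρ1
        have : ρ0 = t0⁻¹ * (t0 * ρ0 * t0⁻¹) * t0 := by group
        rw [this, h]; group) hoρ
  obtain ⟨i, hi, z, hz, hiz⟩ : ∃ i ∈ I, ∃ z ∈ Subgroup.zpowers ρ0, z * i = g := by
    have h1 := Subgroup.mem_sup_of_normal_left.1 hg
    obtain ⟨i, hi, z, hz, h⟩ := h1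
    refine ⟨z⁻¹ * i * z, ?_, z, hz, ?_⟩
    · have := hconjI z⁻¹ i hi
      rwa [inv_inv] at this
    · rw [← h]; group
  have hzc : z * ρ0 = ρ0 * z := by
    obtain ⟨n, rfl⟩ := Subgroup.mem_zpowers_iff.1 hz
    exact ((Commute.refl ρ0).zpow_left n).eq
  set t := i * t0 with ht
  have htρ : t * ρ0 * t⁻¹ = ρ0 ∨ t * ρ0 * t⁻¹ = ρ0⁻¹ := by
    have e : t * ρ0 * t⁻¹ = z⁻¹ * (g * (t0 * ρ0 * t0⁻¹) * g⁻¹) * z := by
      rw [ht, ← hiz]; group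
    rw [e]
    rcases hgc with h | h
    · left; rw [h, mul_assoc, ← hzc, inv_mul_cancel_left]
    · right
      rw [h]
      have : ρ0⁻¹ * z = z * ρ0⁻¹ := by
        rw [inv_mul_eq_iff_eq_mul, ← mul_assoc, ← hzc, mul_inv_cancel_right]
      rw [mul_assoc, this, inv_mul_cancel_left]
  have hφt : φ t = Equiv.swap 1 2 := by rw [ht, map_mul, hIφ i hi, one_mul, hφt0]
  have htinv : t * ρ0 * t⁻¹ = ρ0⁻¹ := by
    rcases htρ with h | h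
    · exfalso
      have h1 := congrArg φ h
      rw [map_mul, map_mul, map_inv, hφt, p3_conj _ hφρ] at h1
      exact p3_ne _ hρz hφρ h1.symm
    · exact h
  -- `s = t cx`
  have hs : t * cx ∈ I := by
    refine hfin (t * cx) ?_ ?_ ⟨t⁻¹ * i⁻¹ * t, ?_, ?_⟩
    · have h1 : cx * ρ0 = ρ0⁻¹ * cx := by rw [← hinv]; group
      have h2 : t * ρ0⁻¹ = ρ0 * t := by
        have : ρ0 = t * ρ0⁻¹ * t⁻¹ := by
          have h3 : (t * ρ0 * t⁻¹)⁻¹ = t * ρ0⁻¹ * t⁻¹ := by group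
          rw [← h3, htinv, inv_inv]
        calc t * ρ0⁻¹ = (t * ρ0⁻¹ * t⁻¹) * t := by group
          _ = ρ0 * t := by rw [← this]
      rw [mul_assoc, h1, ← mul_assoc, h2, mul_assoc]
    · rw [map_mul, hφt, hcxs]; decide
    · have := hconjI t⁻¹ i⁻¹ (I.inv_mem hi)
      rwa [inv_inv] at this
    · have e1 : t * cx * cx = t := by rw [mul_assoc, hcx2, mul_one]
      rw [e1]
      have e2 : t * (t⁻¹ * i⁻¹ * t) = t0 := by rw [ht]; group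
      rw [e2, ht0, show c * cx * c⁻¹ * (c * cx * c⁻¹) = c * (cx * cx) * c⁻¹ by group, hcx2]
      group
  have ht0P : cx * t0 ∈ I := by
    have e : cx * t0 = cx * (i⁻¹ * (t * cx) ) * cx⁻¹ := by rw [ht, hcxi, mul_assoc cx, mul_assoc, mul_assoc, hcx2]; group
    rw [e]
    exact hconjI cx _ (I.mul_mem (I.inv_mem hi) hs)
  have ht0P' : t0 ∈ P := by
    have e : t0 = cx⁻¹ * (cx * t0) := by group
    rw [e]
    exact P.mul_mem (P.inv_mem hcx) (hIP ht0P)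
  have hcP : ∀ p ∈ P, c * p * c⁻¹ ∈ P := by
    intro p hp
    rcases hP p hp with h | h
    · exact hIP (hconjI c p h)
    · have e : c * p * c⁻¹ = t0⁻¹ * (c * (cx * p) * c⁻¹) := by rw [ht0]; group
      rw [e]
      exact P.mul_mem (P.inv_mem ht0P') (hIP (hconjI c _ h))
  have hcP' : ∀ p, p ∈ P ↔ c * p * c⁻¹ ∈ P := by
    intro p
    refine ⟨hcP p, fun h => ?_⟩
    let f : P → P := fun x => ⟨c * x * c⁻¹, hcP x x.2⟩
    have hf : Function.Injective f := by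
      intro x y hxy
      have h1 : c * (x : A) * c⁻¹ = c * y * c⁻¹ := congrArg Subtype.val hxy
      exact Subtype.ext (mul_left_cancel (mul_right_cancel h1))
    obtain ⟨y, hy⟩ := (Finite.injective_iff_surjective.1 hf) ⟨_, h⟩
    have h1 : c * (y : A) * c⁻¹ = c * p * c⁻¹ := congrArg Subtype.val hy
    rw [← mul_left_cancel (mul_right_cancel h1)]
    exact y.2
  refine ⟨c, hcP', fun γ => ⟨fun hγ => ?_, fun hγ => ?_⟩, ?_⟩
  · -- `c Γ c⁻¹ ≤ J`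
    have aux : ∀ j : ℕ, φ (ρ0 ^ j * (c * γ * c⁻¹)) 0 = 0 → c * γ * c⁻¹ ∈ P ⊔ Subgroup.zpowers ρ0 := by
      intro j hj
      have h1 : c⁻¹ * (ρ0 ^ j * (c * γ * c⁻¹)) * c ∈ P := by
        apply hΓz
        · have e : c⁻¹ * (ρ0 ^ j * (c * γ * c⁻¹)) * c = (c⁻¹ * ρ0 * c) ^ j * γ := by
            have e1 : (c⁻¹ * ρ0 * c) ^ j = c⁻¹ * ρ0 ^ j * c := by
              have := conj_pow (i := j) (a := c⁻¹) (b := ρ0)
              rwa [inv_inv] at this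
            rw [e1]; group
          rw [e]
          exact Γ.mul_mem (Γ.pow_mem hρΓ' j) hγ
        · rw [map_mul, map_mul, map_inv]
          change (φ c)⁻¹ (φ (ρ0 ^ j * (c * γ * c⁻¹)) (φ c 0)) = 0
          rw [hcz, hj]
          exact Equiv.Perm.inv_eq_iff_eq.2 hcz.symm
      have h2 := (hcP' _).1 h1
      rw [show c * (c⁻¹ * (ρ0 ^ j * (c * γ * c⁻¹)) * c) * c⁻¹ = ρ0 ^ j * (c * γ * c⁻¹) by group] at h2
      have e : c * γ * c⁻¹ = (ρ0 ^ j)⁻¹ * (ρ0 ^ j * (c * γ * c⁻¹)) := by group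
      rw [e]
      exact mul_mem (Subgroup.mem_sup_right (inv_mem (pow_mem (Subgroup.mem_zpowers ρ0) j))) (Subgroup.mem_sup_left h2)
    rcases p3_tr (φ ρ0) hρz hφρ (φ (c * γ * c⁻¹) 0) with h | h | h
    · exact aux 0 (by rw [map_mul, pow_zero, map_one]; exact h)
    · exact aux 1 (by rw [map_mul, pow_one]; exact h)
    · exact aux 2 (by rw [map_mul, sq, map_mul]; exact h)
  · -- `J ≤ c Γ c⁻¹`
    have hle : P ⊔ Subgroup.zpowers ρ0 ≤ Γ.map (MulAut.conj c).toMonoidHom := by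
      refine sup_le ?_ ?_
      · intro p hp
        refine ⟨c⁻¹ * p * c, hPΓ ?_, ?_⟩
        · rw [hcP', show c * (c⁻¹ * p * c) * c⁻¹ = p by group]; exact hp
        · change c * (c⁻¹ * p * c) * c⁻¹ = p
          group
      · rw [Subgroup.zpowers_le]
        refine ⟨c⁻¹ * ρ0 * c, hρΓ', ?_⟩
        change c * (c⁻¹ * ρ0 * c) * c⁻¹ = ρ0
        group
    obtain ⟨δ, hδ, hδe⟩ := hle hγ
    have h1 : c * δ * c⁻¹ = c * γ * c⁻¹ := hδe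
    rw [← mul_left_cancel (mul_right_cancel h1)]
    exact hδ
  · intro h
    have h1 := hIφ _ h
    rw [hφt0] at h1
    revert h1
    decide

end Cfsg.Agent.H240.TF
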