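import Cfsg.Agent.H240.TF.Ess4a

/-!
# S5262 (ESS4b): an essential `A37 ≤ R ≤ QB`, `R ≰ N3` contains `N3` (helper240)
-/

set_option autoImplicit false
set_option linter.unusedVariables false
set_option linter.unusedSimpArgs false

namespace Cfsg.Agent.H240.TF

open Cfsg Cfsg.FusionSystem Cfsg.Agent.Octagon.Pkg Cfsg.Agent.H745.TF Cfsg.Agent.H756.PU
open Cfsg.Agent.H752.TF Cfsg.Agent.H802.TE

universe u v

section

variable {K : Type u} [Field K] {σ : K →+* K} {m : ℕ} (hK : HypK σ m)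
variable {U : Type v} [Group U] (T : TF σ U)

include hK

theorem mul_mem_V {c y : U} (hc : c ∈ T.Y) (hy : y ∈ T.Y) (h : (co T c).a5 = (co T y).a5) : c * y ∈ T.V := by
  have h2 := hK.two
  rw [mem_V hK, co_mul hK]
  rw [mem_Y hK] at hc hy
  generalize co T c = c at hc h ⊢
  generalize co T y = d at hy h ⊢
  obtain ⟨c1, c2, c3, c4, c5, c6, c7, c8, c9⟩ := hc
  obtain ⟨d1, d2, d3, d4, d5, d6, d7, d8, d9⟩ := hy
  refine ⟨?_, ?_, ?_, ?_, ?_, ?_, ?_, ?_, ?_, ?_⟩ <;>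
    simp only [mul_a1, mul_a2, mul_b2, mul_a3, mul_a4, mul_b4, mul_a5, mul_a6, mul_b6, mul_a7, mul_a8, mul_b8,
      c1, c2, c3, c4, c5, c6, c7, c8, c9, d1, d2, d3, d4, d5, d6, d7, d8, d9, zero_mul, mul_zero, add_zero, zero_add,
      map_zero, pow_zero, ne_eq, OfNat.ofNat_ne_zero, not_false_eq_true, zero_pow]
  rw [h]
  linear_combination d.a5 * h2

/-- the product in `V` -/
theorem co_VV (a b c d : K) : T.x4 0 a * T.x6 0 b * (T.x4 0 c * T.x6 0 d) = T.x4 0 (a + c) * T.x6 0 (b + d) := by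
  apply co_injective T
  rw [co_mul hK, co_mul hK, co_mul hK, co_mul hK, co_x4, co_x4, co_x6, co_x6, co_x4, co_x6]
  ext <;> simp only [e4, e6, mul_a1, mul_a2, mul_b2, mul_a3, mul_a4, mul_b4, mul_a5, mul_a6, mul_b6, mul_a7, mul_a8, mul_b8,
      zero_mul, mul_zero, add_zero, zero_add,
      map_zero, pow_zero, ne_eq, OfNat.ofNat_ne_zero, not_false_eq_true, zero_pow]

theorem co_QB_X5 {w : U} (hw : w ∈ T.QB) (s : K) :
    w * T.x5 s * w⁻¹ * (T.x5 s)⁻¹ = T.x4 0 ((co T w).a2 * s) * T.x6 0 ((co T w).a8 * s) := by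
  apply co_injective T
  rw [co_QB_Y hK T hw (X5_le_Y T (x5_mem T s)), co_mul hK, co_x4, co_x6, co_x5]
  ext <;> simp only [e4, e5, e6, mul_a1, mul_a2, mul_b2, mul_a3, mul_a4, mul_b4, mul_a5, mul_a6, mul_b6, mul_a7, mul_a8,
      mul_b8, zero_mul, mul_zero, add_zero, zero_add,
      map_zero, pow_zero, ne_eq, OfNat.ofNat_ne_zero, not_false_eq_true, zero_pow]

/-- `x4(b)² = z4(bσ(b))` -/
theorem sq_x4 (b : K) : T.x4 b 0 * T.x4 b 0 = T.x4 0 (b * σ b) := by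
  have h2 := hK.two
  apply co_injective T
  rw [co_mul hK, co_x4, co_x4]
  ext <;> simp only [e4, mul_a1, mul_a2, mul_b2, mul_a3, mul_a4, mul_b4, mul_a5, mul_a6, mul_b6, mul_a7, mul_a8, mul_b8,
      zero_mul, mul_zero, add_zero, zero_add,
      map_zero, pow_zero, ne_eq, OfNat.ofNat_ne_zero, not_false_eq_true, zero_pow]
  linear_combination b * h2

/-- `x6(b)² = z6(bσ(b))` -/
theorem sq_x6 (b : K) : T.x6 b 0 * T.x6 b 0 = T.x6 0 (b * σ b) := by
  have h2 := hK.two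
  apply co_injective T
  rw [co_mul hK, co_x6, co_x6]
  ext <;> simp only [e6, mul_a1, mul_a2, mul_b2, mul_a3, mul_a4, mul_b4, mul_a5, mul_a6, mul_b6, mul_a7, mul_a8, mul_b8,
      zero_mul, mul_zero, add_zero, zero_add,
      map_zero, pow_zero, ne_eq, OfNat.ofNat_ne_zero, not_false_eq_true, zero_pow]
  linear_combination b * h2

omit hK in
theorem x4_zero : T.x4 0 0 = 1 := co_injective T (by rw [co_x4, co_one]; rfl)

omit hK in
theorem x6_zero : T.x6 0 0 = 1 := co_injective T (by rw [co_x6, co_one]; rfl)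

/-- `b ↦ b σ(b)` is onto -/
theorem exists_norm (z : K) : ∃ b : K, b * σ b = z := by
  by_cases hz : z = 0
  · exact ⟨0, by rw [zero_mul, hz]⟩
  · have hs : σ z ≠ 0 := (map_ne_zero σ).2 hz
    refine ⟨σ z / z, ?_⟩
    rw [map_div₀, hK.sq]
    field_simp

/-- conjugation by `x1 t` on `QB/N3` -/
theorem co_conj_x1 (t : K) (w : U) :
    (co T (T.x1 t * w * (T.x1 t)⁻¹)).a2 + (co T w).a8 * t = (co T w).a2 := by
  have e : co T (T.x1 t * w * (T.x1 t)⁻¹ * T.x1 t) = co T (T.x1 t * w) := by rw [inv_mul_cancel_right]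
  rw [co_mul hK T _ (T.x1 t), co_mul hK T (T.x1 t) w, co_x1] at e
  generalize co T (T.x1 t * w * (T.x1 t)⁻¹) = z at e ⊢
  generalize co T w = c at e ⊢
  have f8 := congrArg Cd.a8 e
  simp only [mul_a8, e1, zero_add, add_zero] at f8
  have f2 := congrArg Cd.a2 e
  simp only [mul_a2, e1, zero_add, add_zero, zero_mul] at f2
  rw [← f8]
  exact f2

/-- not in `N3` -/
theorem ne_of_not_N3 {w : U} (hw : w ∈ T.QB) (hN : w ∉ T.N3) : (co T w).a2 ≠ 0 ∨ (co T w).a8 ≠ 0 := by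
  by_contra hh
  push Not at hh
  apply hN
  rw [mem_N3 hK]
  rw [mem_QB hK] at hw
  exact ⟨hw, hh.1, hh.2⟩

end

section

variable (hphi : StPhi.{v}) (hhull : StHull.{v})
variable {K : Type u} [Field K] {σ : K →+* K} {m : ℕ} (hK : HypK σ m)
variable {U : Type v} [Group U] (T : TF σ U)
variable {R : Subgroup U} {Γ : Subgroup (MulAut R)} (hE : Ess (⊤ : Subgroup U) R 2 Γ) (hA : T.A37 ≤ R) (hQB : R ≤ T.QB)
variable (hN : ¬ R ≤ T.N3) (hN3 : ¬ T.N3 ≤ R)

include hphi hK T hE in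
theorem phi_facts : Com R R (Phi R) ∧ ∀ x ∈ R, x * x ∈ Phi R := by
  have := finite_U hK T
  have hpR : IsPGroup 2 R := hE.pgr.of_injective (Subgroup.inclusion hE.E_le) (Subgroup.inclusion_injective _)
  obtain ⟨-, hRR, hsq, -, -, -⟩ := hphi R 2 Nat.prime_two inferInstance hpR
  exact ⟨hRR, fun x hx => by rw [← sq]; exact hsq x hx⟩

include hphi hhull hK hE hA hQB hN hN3 in
/-- `V ≤ Φ(R)` is impossible -/
theorem no_V (hV : T.V ≤ Phi R) : False := by
  have h2 := hK.two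
  obtain ⟨hRR, hSQ⟩ := phi_facts hphi hK T hE
  obtain ⟨w, hw, hwN⟩ := SetLike.not_le_iff_exists.1 hN
  -- `Y ≤ Φ`
  have hY : T.Y ≤ Phi R := by
    intro y hy
    obtain ⟨a, ha, h5⟩ : ∃ a ∈ T.A37, σ (co T w).a8 * (co T a).a3 + (co T a).a7 * σ (co T w).a2 = (co T y).a5 := by
      rcases ne_of_not_N3 hK T (hQB hw) hwN with h | h
      · have h' : σ (co T w).a2 ≠ 0 := (map_ne_zero σ).2 h
        refine ⟨T.x7 ((co T y).a5 / σ (co T w).a2), X7_le_A37 T (x7_mem T _), ?_⟩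
        rw [co_x7]
        simp only [e7, mul_zero, zero_add]
        rw [div_mul_cancel₀ _ h']
      · have h' : σ (co T w).a8 ≠ 0 := (map_ne_zero σ).2 h
        refine ⟨T.x3 ((co T y).a5 / σ (co T w).a8), X3_le_A37 T (x3_mem T _), ?_⟩
        rw [co_x3]
        simp only [e3, zero_mul, add_zero]
        rw [mul_div_cancel₀ _ h']
    obtain ⟨hcY, hc5⟩ := comm_QB_A37 hK T (hQB hw) ha
    have hcΦ : w * a * w⁻¹ * a⁻¹ ∈ Phi R := hRR w hw a (hA ha)
    generalize w * a * w⁻¹ * a⁻¹ = c at hcY hc5 hcΦ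
    have h6 := hV (mul_mem_V hK T hcY hy (by rw [hc5, h5]))
    have h7 : c * (c * y) = y := by rw [← mul_assoc, sq_A37 hK T (Y_le_A37 hK T hcY), one_mul]
    rw [← h7]
    exact (Phi R).mul_mem hcΦ h6
  obtain ⟨γ, hγ, y0, hy0, n, hn, hcon⟩ := hhull hE T.N3 T.A37 le_top hA
    (fun x hx e he => (comm_N3_QB hK T hx (hQB he)).1) hN3
  have hsq0 : y0 * y0 = 1 := Subtype.ext (sq_A37 hK T hy0)
  have hy2 : ((γ y0 : R) : U) * ((γ y0 : R) : U) = 1 := by
    have h := congrArg (fun e : R => ((γ e : R) : U)) hsq0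
    simpa only [map_mul, map_one, Subgroup.coe_mul, Subgroup.coe_one] using h
  have hyN : ((γ y0 : R) : U) ∈ T.N3 := stOrd hK T _ hy2 (hQB (γ y0).2)
  exact hcon (hY (comm_N3 hK T hn hyN))

include hphi hhull hK hE hA hQB hN hN3 in
/-- (γ) -/
theorem no_indep {w w' : U} (hw : w ∈ R) (hw' : w' ∈ R) :
    (co T w).a2 * (co T w').a8 + (co T w').a2 * (co T w).a8 = 0 := by
  by_contra hD
  have h2 := hK.two
  obtain ⟨hRR, hSQ⟩ := phi_facts hphi hK T hE
  refine no_V hphi hhull hK T hE hA hQB hN hN3 fun v hv => ?_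
  set p := (co T w).a2
  set k := (co T w).a8
  set p' := (co T w').a2
  set k' := (co T w').a8
  set D := p * k' + p' * k with hDd
  rw [mem_V hK] at hv
  have hY5 : ∀ s, T.x5 s ∈ R := fun s => hA (X5_le_A37 T (x5_mem T s))
  have e1 := co_QB_X5 hK T (hQB hw) (((co T v).b4 * k' + (co T v).b6 * p') / D)
  have e2 := co_QB_X5 hK T (hQB hw') (((co T v).b4 * k + (co T v).b6 * p) / D)
  have e3 : v = (T.x4 0 (p * (((co T v).b4 * k' + (co T v).b6 * p') / D)) *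
      T.x6 0 (k * (((co T v).b4 * k' + (co T v).b6 * p') / D))) *
      (T.x4 0 (p' * (((co T v).b4 * k + (co T v).b6 * p) / D)) *
      T.x6 0 (k' * (((co T v).b4 * k + (co T v).b6 * p) / D))) := by
    rw [co_VV hK]
    apply co_injective T
    rw [co_mul hK, co_x4, co_x6]
    have h4 : p * (((co T v).b4 * k' + (co T v).b6 * p') / D) + p' * (((co T v).b4 * k + (co T v).b6 * p) / D) =
        (co T v).b4 := by
      field_simp
      rw [hDd]
      linear_combination p * p' * (co T v).b6 * h2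
    have h6 : k * (((co T v).b4 * k' + (co T v).b6 * p') / D) + k' * (((co T v).b4 * k + (co T v).b6 * p) / D) =
        (co T v).b6 := by
      field_simp
      rw [hDd]
      linear_combination k * k' * (co T v).b4 * h2
    rw [h4, h6]
    obtain ⟨v1, v2, v3, v4, v5, v6, v7, v8, v9, v10⟩ := hv
    ext <;> simp only [e4, e6, mul_a1, mul_a2, mul_b2, mul_a3, mul_a4, mul_b4, mul_a5, mul_a6, mul_b6, mul_a7, mul_a8,
      mul_b8, zero_mul, mul_zero, add_zero, zero_add, v1, v2, v3, v4, v5, v6, v7, v8, v9, v10,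
      map_zero, pow_zero, ne_eq, OfNat.ofNat_ne_zero, not_false_eq_true, zero_pow]
  rw [e3, ← e1, ← e2]
  exact (Phi R).mul_mem (hRR w hw _ (hY5 _)) (hRR w' hw' _ (hY5 _))

include hphi hhull hK hE hA hQB hN hN3 in
/-- case (I): `R ≤ X2 N3` -/
theorem caseI (hsq : StSQ.{u, v}) (hI : ∀ w ∈ R, (co T w).a8 = 0) : False := by
  have h2 := hK.two
  obtain ⟨hRR, hSQ⟩ := phi_facts hphi hK T hE
  obtain ⟨w, hw, hwN⟩ := SetLike.not_le_iff_exists.1 hN
  have hp : (co T w).a2 ≠ 0 := (ne_of_not_N3 hK T (hQB hw) hwN).resolve_right (fun h => h (hI w hw))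
  have hY5 : ∀ s, T.x5 s ∈ R := fun s => hA (X5_le_A37 T (x5_mem T s))
  have hZ4 : T.Z4 ≤ Phi R := by
    intro z hz
    obtain ⟨u, rfl⟩ := (mem_Z4 hK T).1 hz
    have e1 := co_QB_X5 hK T (hQB hw) (u / (co T w).a2)
    rw [mul_div_cancel₀ _ hp, hI w hw, zero_mul, x6_zero T, mul_one] at e1
    rw [← e1]
    exact hRR w hw _ (hY5 _)
  obtain ⟨N, hNm⟩ := exists_sub hK T (fun c => c.a1 = 0 ∧ c.a2 = 0 ∧ c.a8 = 0 ∧ c.a4 = 0 ∧ c.b8 = 0)
    ⟨rfl, rfl, rfl, rfl, rfl⟩ (by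
      rintro c d ⟨c1, c2, c8, c4, d8⟩ ⟨e1, e2, e8, e4, f8⟩
      refine ⟨?_, ?_, ?_, ?_, ?_⟩ <;>
      simp only [mul_a1, mul_a2, mul_b2, mul_a3, mul_a4, mul_a8, mul_b8, c1, c2, c8, c4, d8, e1, e2, e8, e4, f8,
        zero_mul, mul_zero, add_zero, zero_add, map_zero])
  have hNR : N ≤ R := by
    by_contra hcN
    obtain ⟨γ, hγ, y0, hy0, n, hn, hcon⟩ := hhull hE N T.Y le_top ((Y_le_A37 hK T).trans hA) (by
      intro x hx e he
      obtain ⟨x1, x2, x8, x4, xb8⟩ := (hNm x).1 hx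
      have hxN : x ∈ T.N3 := (mem_N3 hK T).2 ⟨x1, x2, x8⟩
      obtain ⟨hcA, h3, h7⟩ := comm_N3_QB hK T hxN (hQB he)
      rw [x4, hI e he, zero_mul, zero_mul, add_zero] at h3
      rw [xb8, hI e he, zero_mul, zero_mul, add_zero] at h7
      rw [mem_A37 hK] at hcA
      rw [mem_Y hK]
      obtain ⟨k1, k2, k3, k4, k5, k6, k7⟩ := hcA
      exact ⟨k1, k2, k3, h3, k4, k5, h7, k6, k7⟩) hcN
    have hsq0 : y0 * y0 = 1 := Subtype.ext (sq_A37 hK T (Y_le_A37 hK T hy0))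
    have hy2 : ((γ y0 : R) : U) * ((γ y0 : R) : U) = 1 := by
      have h := congrArg (fun e : R => ((γ e : R) : U)) hsq0
      simpa only [map_mul, map_one, Subgroup.coe_mul, Subgroup.coe_one] using h
    have hyN : ((γ y0 : R) : U) ∈ T.N3 := stOrd hK T _ hy2 (hQB (γ y0).2)
    obtain ⟨n1, n2, n8, n4, nb8⟩ := (hNm n).1 hn
    have hnN : n ∈ T.N3 := (mem_N3 hK T).2 ⟨n1, n2, n8⟩
    have h468 : (co T ((γ y0 : R) : U)).a4 = 0 ∧ (co T ((γ y0 : R) : U)).a6 = 0 ∧ (co T ((γ y0 : R) : U)).b8 = 0 := by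
      by_cases hyA : ((γ y0 : R) : U) ∈ T.A37
      · rw [mem_A37 hK] at hyA
        exact ⟨hyA.2.2.2.1, hyA.2.2.2.2.1, hyA.2.2.2.2.2.2⟩
      · obtain ⟨p0, k0, r, hr, hpk, hb2, ha4, ha6, hb8⟩ := hsq hK T (co T ((γ y0 : R) : U))
          (by rw [el_co]; exact hyN) (by rw [el_co]; exact hy2) (by rw [el_co]; exact hyA)
        have hδ := key_delta (Γ := Γ) hK T hQB hy0 hyN hr hb2 ha4 ha6 hb8 hw
        rw [hI w hw, mul_zero, add_zero] at hδ
        have hk0 : k0 = 0 := (mul_eq_zero.1 hδ).resolve_right hp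
        rw [hk0] at ha4 ha6 hb8
        refine ⟨?_, ?_, ?_⟩
        · rw [ha4, mul_zero]
        · rw [ha6, map_zero, mul_zero]
        · rw [hb8, map_zero, mul_zero]
    exact hcon (hZ4 (comm_Z4_case hK T hnN hyN n4 nb8 h468.1 h468.2.1 h468.2.2))
  refine no_V hphi hhull hK T hE hA hQB hN hN3 (sup_le hZ4 fun z hz => ?_)
  obtain ⟨u, rfl⟩ := (mem_Z6 hK T).1 hz
  obtain ⟨b, hb⟩ := exists_norm hK u
  rw [← hb, ← sq_x6 hK]
  refine hSQ _ (hNR ((hNm _).2 ?_))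
  rw [co_x6]
  exact ⟨rfl, rfl, rfl, rfl, rfl⟩

include hphi hhull hK hE hA hQB hN hN3 in
/-- case (II): `R ≤ X8 N3` -/
theorem caseII (hsq : StSQ.{u, v}) (hI : ∀ w ∈ R, (co T w).a2 = 0) : False := by
  have h2 := hK.two
  obtain ⟨hRR, hSQ⟩ := phi_facts hphi hK T hE
  obtain ⟨w, hw, hwN⟩ := SetLike.not_le_iff_exists.1 hN
  have hp : (co T w).a8 ≠ 0 := (ne_of_not_N3 hK T (hQB hw) hwN).resolve_left (fun h => h (hI w hw))
  have hY5 : ∀ s, T.x5 s ∈ R := fun s => hA (X5_le_A37 T (x5_mem T s))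
  have hZ6 : T.Z6 ≤ Phi R := by
    intro z hz
    obtain ⟨u, rfl⟩ := (mem_Z6 hK T).1 hz
    have e1 := co_QB_X5 hK T (hQB hw) (u / (co T w).a8)
    rw [mul_div_cancel₀ _ hp, hI w hw, zero_mul, x4_zero T, one_mul] at e1
    rw [← e1]
    exact hRR w hw _ (hY5 _)
  obtain ⟨N, hNm⟩ := exists_sub hK T (fun c => c.a1 = 0 ∧ c.a2 = 0 ∧ c.a8 = 0 ∧ c.b2 = 0 ∧ c.a6 = 0)
    ⟨rfl, rfl, rfl, rfl, rfl⟩ (by
      rintro c d ⟨c1, c2, c8, c4, d8⟩ ⟨e1, e2, e8, e4, f8⟩
      refine ⟨?_, ?_, ?_, ?_, ?_⟩ <;>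
      simp only [mul_a1, mul_a2, mul_b2, mul_a3, mul_a4, mul_a6, mul_a8, mul_b8, c1, c2, c8, c4, d8, e1, e2, e8, e4, f8,
        zero_mul, mul_zero, add_zero, zero_add, map_zero])
  have hNR : N ≤ R := by
    by_contra hcN
    obtain ⟨γ, hγ, y0, hy0, n, hn, hcon⟩ := hhull hE N T.Y le_top ((Y_le_A37 hK T).trans hA) (by
      intro x hx e he
      obtain ⟨x1, x2, x8, xb2, x6⟩ := (hNm x).1 hx
      have hxN : x ∈ T.N3 := (mem_N3 hK T).2 ⟨x1, x2, x8⟩
      obtain ⟨hcA, h3, h7⟩ := comm_N3_QB hK T hxN (hQB he)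
      rw [xb2, hI e he, mul_zero, mul_zero, add_zero] at h3
      rw [x6, hI e he, mul_zero, mul_zero, add_zero] at h7
      rw [mem_A37 hK] at hcA
      rw [mem_Y hK]
      obtain ⟨k1, k2, k3, k4, k5, k6, k7⟩ := hcA
      exact ⟨k1, k2, k3, h3, k4, k5, h7, k6, k7⟩) hcN
    have hsq0 : y0 * y0 = 1 := Subtype.ext (sq_A37 hK T (Y_le_A37 hK T hy0))
    have hy2 : ((γ y0 : R) : U) * ((γ y0 : R) : U) = 1 := by
      have h := congrArg (fun e : R => ((γ e : R) : U)) hsq0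
      simpa only [map_mul, map_one, Subgroup.coe_mul, Subgroup.coe_one] using h
    have hyN : ((γ y0 : R) : U) ∈ T.N3 := stOrd hK T _ hy2 (hQB (γ y0).2)
    obtain ⟨n1, n2, n8, nb2, n6⟩ := (hNm n).1 hn
    have hnN : n ∈ T.N3 := (mem_N3 hK T).2 ⟨n1, n2, n8⟩
    have h468 : (co T ((γ y0 : R) : U)).b2 = 0 ∧ (co T ((γ y0 : R) : U)).a4 = 0 ∧ (co T ((γ y0 : R) : U)).a6 = 0 := by
      by_cases hyA : ((γ y0 : R) : U) ∈ T.A37
      · rw [mem_A37 hK] at hyA
        exact ⟨hyA.2.2.1, hyA.2.2.2.1, hyA.2.2.2.2.1⟩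
      · obtain ⟨p0, k0, r, hr, hpk, hb2, ha4, ha6, hb8⟩ := hsq hK T (co T ((γ y0 : R) : U))
          (by rw [el_co]; exact hyN) (by rw [el_co]; exact hy2) (by rw [el_co]; exact hyA)
        have hδ := key_delta (Γ := Γ) hK T hQB hy0 hyN hr hb2 ha4 ha6 hb8 hw
        rw [hI w hw, mul_zero, zero_add] at hδ
        have hp0 : p0 = 0 := (mul_eq_zero.1 hδ).resolve_right hp
        rw [hp0] at hb2 ha4 ha6
        refine ⟨?_, ?_, ?_⟩
        · rw [hb2, map_zero, mul_zero]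
        · rw [ha4, map_zero, mul_zero, zero_mul]
        · rw [ha6, mul_zero, zero_mul]
    exact hcon (hZ6 (comm_Z6_case hK T hnN hyN nb2 n6 h468.1 h468.2.1 h468.2.2))
  refine no_V hphi hhull hK T hE hA hQB hN hN3 (sup_le (fun z hz => ?_) hZ6)
  obtain ⟨u, rfl⟩ := (mem_Z4 hK T).1 hz
  obtain ⟨b, hb⟩ := exists_norm hK u
  rw [← hb, ← sq_x4 hK]
  refine hSQ _ (hNR ((hNm _).2 ?_))
  rw [co_x4]
  exact ⟨rfl, rfl, rfl, rfl, rfl⟩

end

/-- (ESS4b) -/
theorem stEss4b_of (hphi : StPhi.{v}) (hhull : StHull.{v}) (hcj : StConj.{v}) (hsq : StSQ.{u, v}) :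
    StEss4b.{u, v} := by
  intro K _ σ m hK U _ T R Γ hE hA hQB hN
  have h2 := hK.two
  by_contra hN3
  obtain ⟨w, hw, hwN⟩ := SetLike.not_le_iff_exists.1 hN
  have hind := fun (w' : U) (hw' : w' ∈ R) => no_indep hphi hhull hK T hE hA hQB hN hN3 hw hw'
  by_cases hk : (co T w).a8 = 0
  · have hp : (co T w).a2 ≠ 0 := (ne_of_not_N3 hK T (hQB hw) hwN).resolve_right (fun h => h hk)
    refine caseI hphi hhull hK T hE hA hQB hN hN3 hsq fun w' hw' => ?_
    have h := hind w' hw'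
    rw [hk, mul_zero, add_zero] at h
    exact (mul_eq_zero.1 h).resolve_left hp
  · set t : K := (co T w).a2 / (co T w).a8 with ht
    set g : U := T.x1 t with hg
    obtain ⟨Γ', hE'⟩ := hcj hE g (Subgroup.mem_top g)
    have hmem : ∀ x : U, x ∈ R.map (MulAut.conj g).toMonoidHom ↔ g⁻¹ * x * g ∈ R := by
      intro x
      rw [Subgroup.mem_map]
      constructor
      · rintro ⟨r, hr, rfl⟩
        have : g⁻¹ * ((MulAut.conj g).toMonoidHom r) * g = r := by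
          change g⁻¹ * (g * r * g⁻¹) * g = r
          group
        rw [this]
        exact hr
      · intro h
        refine ⟨_, h, ?_⟩
        change g * (g⁻¹ * x * g) * g⁻¹ = x
        group
    have hnA := A37_normal hK T
    have hnN := N3_normal hK T
    have hnQ := QB_normal hK T
    have hcn : ∀ (S : Subgroup U), S.Normal → ∀ x, x ∈ S ↔ g⁻¹ * x * g ∈ S := by
      intro S hS x
      constructor
      · intro h
        have := hS.conj_mem x h g⁻¹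
        rwa [inv_inv] at this
      · intro h
        have := hS.conj_mem _ h g
        rwa [show g * (g⁻¹ * x * g) * g⁻¹ = x by group] at this
    refine caseII hphi hhull hK T hE' (fun a ha => (hmem a).2 (hA ((hcn _ hnA a).1 ha)))
      (fun x hx => (hcn _ hnQ x).2 (hQB ((hmem x).1 hx))) (fun h => ?_) (fun h => ?_) hsq (fun x hx => ?_)
    · apply hwN
      have h1 : g * w * g⁻¹ ∈ R.map (MulAut.conj g).toMonoidHom := (hmem _).2 (by
        rwa [show g⁻¹ * (g * w * g⁻¹) * g = w by group])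
      have h3 := (hcn _ hnN _).1 (h h1)
      rwa [show g⁻¹ * (g * w * g⁻¹) * g = w by group] at h3
    · apply hN3
      intro n hn
      have h1 := (hmem _).1 (h (hnN.conj_mem n hn g))
      rwa [show g⁻¹ * (g * n * g⁻¹) * g = n by group] at h1
    · have hr := (hmem x).1 hx
      have h3 := co_conj_x1 hK T t (g⁻¹ * x * g)
      rw [← hg, show g * (g⁻¹ * x * g) * g⁻¹ = x by group] at h3
      have h4 := hind _ hr
      have h5 : (co T (g⁻¹ * x * g)).a8 * t = (co T (g⁻¹ * x * g)).a2 := by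
        rw [ht, ← mul_div_assoc, div_eq_iff hk]
        linear_combination h4 - (co T (g⁻¹ * x * g)).a2 * (co T w).a8 * h2
      rw [h5] at h3
      linear_combination h3

end Cfsg.Agent.H240.TF
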