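import Cfsg.Agent.H240.TF.B2Def
import Cfsg.Agent.H240.TF.B2Abs
import Cfsg.Agent.H240.TF.Ess4b
import Cfsg.Agent.H7.TF.LB
import Cfsg.Agent.H805.TF.Syl
import Cfsg.Agent.H181.TF.TIFin

/-!
# S5262, `q = 2`, B-side: the Weyl element, `ρ0`, extension of automorphisms (helper240)
-/

set_option autoImplicit false
set_option linter.unusedVariables false
set_option linter.unusedSimpArgs false

namespace Cfsg.Agent.H240.TF

open Cfsg Cfsg.FusionSystem Cfsg.Agent.H756.PU Cfsg.Agent.H745.TF Cfsg.Agent.H752.TF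
open Cfsg.Agent.H659.TF (x2_B x3_B x4_B x5_B x6_B x7_B x8_B)

universe u v w

/-! ### extension of an automorphism of a subgroup of index 2 -/

theorem ext2 {U : Type v} [Group U] [Finite U] (Q : Subgroup U) (x y : U) (hx : x ∉ Q) (hy : y ∉ Q)
    (hidx : ∀ g, g ∉ Q → x⁻¹ * g ∈ Q) (hx2 : x * x = 1) (hy2 : y * y = 1) (c : MulAut Q)
    (hn : ∀ e ∈ Q, x * e * x⁻¹ ∈ Q)
    (hc : ∀ e e' : Q, (e' : U) = x * e * x⁻¹ → ((c e' : Q) : U) = y * c e * y⁻¹) :
    ∃ θ : MulAut U, ∀ e : Q, θ e = c e := by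
  classical
  have hxi : x⁻¹ = x := inv_eq_of_mul_eq_one_left hx2
  have hyi : y⁻¹ = y := inv_eq_of_mul_eq_one_left hy2
  let f : U → U := fun g => if h : g ∈ Q then (c ⟨g, h⟩ : Q) else y * (c ⟨x⁻¹ * g, hidx g h⟩ : Q)
  have f0 : ∀ e : Q, f e = c e := fun e => dif_pos e.2
  have f1 : ∀ e : Q, f (x * e) = y * (c e : Q) := by
    intro e
    have h : x * (e : U) ∉ Q := fun h => hx (by
      have := Q.mul_mem h (Q.inv_mem e.2)
      rwa [mul_inv_cancel_right] at this)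
    change (if h : x * (e : U) ∈ Q then ((c ⟨x * (e : U), h⟩ : Q) : U) else y * (c ⟨x⁻¹ * (x * (e : U)), hidx _ h⟩ : Q)) = _
    rw [dif_neg h]
    have e1 : (⟨x⁻¹ * (x * (e : U)), hidx _ h⟩ : Q) = e := Subtype.ext (inv_mul_cancel_left _ _)
    rw [e1]
  have hdec : ∀ g : U, (∃ e : Q, g = e) ∨ ∃ e : Q, g = x * e := by
    intro g
    by_cases h : g ∈ Q
    · exact Or.inl ⟨⟨g, h⟩, rfl⟩
    · exact Or.inr ⟨⟨x⁻¹ * g, hidx g h⟩, (mul_inv_cancel_left x g).symm⟩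
  have hcx : ∀ e : Q, ((c ⟨x * e * x⁻¹, hn e e.2⟩ : Q) : U) = y * c e * y⁻¹ := fun e => hc e _ rfl
  have hmul : ∀ a b : U, f (a * b) = f a * f b := by
    intro a b
    rcases hdec a with ⟨a, rfl⟩ | ⟨a, rfl⟩ <;> rcases hdec b with ⟨b, rfl⟩ | ⟨b, rfl⟩
    · have := f0 (a * b)
      rw [Subgroup.coe_mul] at this
      rw [this, f0, f0, map_mul, Subgroup.coe_mul]
    · have e1 : (a : U) * (x * b) = x * ((⟨x * a * x⁻¹, hn a a.2⟩ * b : Q) : U) := by
        rw [Subgroup.coe_mul]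
        change (a : U) * (x * b) = x * (x * a * x⁻¹ * b)
        rw [hxi, mul_assoc (x * (a : U)), mul_assoc x (a : U), ← mul_assoc x x, hx2, one_mul]
      rw [e1, f1, f0, f1, map_mul, Subgroup.coe_mul, hcx, hyi, mul_assoc (y * ((c a : Q) : U)), mul_assoc y,
        ← mul_assoc y y, hy2, one_mul]
    · have e1 : x * (a : U) * b = x * ((a * b : Q) : U) := by rw [Subgroup.coe_mul, mul_assoc]
      rw [e1, f1, f1, f0, map_mul, Subgroup.coe_mul, mul_assoc]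
    · have e1 : x * (a : U) * (x * b) = ((⟨x * a * x⁻¹, hn a a.2⟩ * b : Q) : U) := by
        rw [Subgroup.coe_mul]
        change x * (a : U) * (x * b) = x * a * x⁻¹ * b
        rw [hxi, mul_assoc (x * (a : U))]
      rw [e1, f0, f1, f1, map_mul, Subgroup.coe_mul, hcx, hyi, mul_assoc (y * ((c a : Q) : U))]
  let F : U →* U := MonoidHom.mk' f hmul
  have hinj : Function.Injective F := by
    rw [injective_iff_map_eq_one]
    intro g hg
    rcases hdec g with ⟨e, rfl⟩ | ⟨e, rfl⟩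
    · have h1 : f (e : U) = 1 := hg
      rw [f0] at h1
      have h2 : c e = 1 := Subtype.ext h1
      rw [(map_eq_one_iff c c.injective).1 h2]
      rfl
    · exfalso
      have h1 : f (x * (e : U)) = 1 := hg
      rw [f1] at h1
      apply hy
      rw [eq_inv_of_mul_eq_one_left h1]
      exact Q.inv_mem (c e).2
  exact ⟨MulEquiv.ofBijective F ⟨hinj, Finite.injective_iff_surjective.1 hinj⟩, fun e => f0 e⟩

/-! ### three points -/

theorem exists_phi {G : Type*} [Group G] (v : Fin 3 → G) (hinj : Function.Injective v)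
    (hex : ∀ (γ : MulAut G) (i : Fin 3), ∃ j, γ (v i) = v j) :
    ∃ φ : MulAut G →* Equiv.Perm (Fin 3), ∀ γ i, γ (v i) = v (φ γ i) := by
  choose J hJ using hex
  have h1 : ∀ i, J 1 i = i := fun i => hinj (by rw [← hJ]; rfl)
  have hm : ∀ a b i, J (a * b) i = J a (J b i) := fun a b i => hinj (by rw [← hJ, ← hJ, ← hJ]; rfl)
  refine ⟨MonoidHom.mk' (fun γ => ⟨J γ, J γ⁻¹, fun i => ?_, fun i => ?_⟩) fun a b => Equiv.ext fun i => hm a b i,
    fun γ i => hJ γ i⟩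
  · rw [← hm, inv_mul_cancel, h1]
  · rw [← hm, mul_inv_cancel, h1]

section

variable {K : Type u} [Field K] {σ : K →+* K} {U : Type v} [Group U] (T : TF σ U)

/-- the Weyl element in the model -/
theorem wb_emb {m : ℕ} (hK : HypK σ m) {w0 : MulAut T.QB} (hw : T.IsWb w0) :
    ∃ (G : Type u) (_ : Group G) (f : U →* G) (n y : G), Function.Injective f ∧ n * n = 1 ∧
      n = f (T.x1 1) * y * f (T.x1 1) ∧ y * y = 1 ∧ n * f (T.x1 1) * n⁻¹ = y ∧
      ∀ e : T.QB, f ((w0 e : T.QB) : U) = n * f e * n⁻¹ := by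
  obtain ⟨G, _, S, f, hf, a1, a2, a3, a4, a5, a6, a7, a8⟩ := Cfsg.Agent.H805.TF.exists_emb T hK
  refine ⟨G, inferInstance, f, S.n1, S.o 4 1, hf, S.n1_sq, ?_, ?_, ?_, ?_⟩
  · rw [a1]; exact S.n1_word
  · rw [S.o_add, one_add_one_eq_two, hK.two, S.o_zero]
  · rw [a1]
    have := S.n1_o 0 1
    rwa [sub_zero] at this
  · rintro ⟨g, hg⟩
    obtain ⟨a2', b2, a3', a4', b4, a5', a6', b6, a7', a8', b8, rfl⟩ := Cfsg.Agent.H7.TF.exists_B T hK.two hg
    have key : (⟨_, hg⟩ : T.QB) = ⟨T.x2 a2' b2, x2_B _ _⟩ * ⟨T.x3 a3', x3_B _⟩ * ⟨T.x4 a4' b4, x4_B _ _⟩ *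
      ⟨T.x5 a5', x5_B _⟩ * ⟨T.x6 a6' b6, x6_B _ _⟩ * ⟨T.x7 a7', x7_B _⟩ * ⟨T.x8 a8' b8, x8_B _ _⟩ := rfl
    have w3 : ∀ t, S.n1 * S.o 1 t * S.n1⁻¹ = S.o 3 t := fun t => S.n1_o 1 t
    have w5 : ∀ t, S.n1 * S.o 2 t * S.n1⁻¹ = S.o 2 t := fun t => S.n1_o 2 t
    have w7 : ∀ t, S.n1 * S.o 3 t * S.n1⁻¹ = S.o 1 t := fun t => S.n1_o 3 t
    have w2 : ∀ p u, S.n1 * S.e 1 p u * S.n1⁻¹ = S.e 4 p u := fun p u => S.n1_e 1 p u
    have w4 : ∀ p u, S.n1 * S.e 2 p u * S.n1⁻¹ = S.e 3 p u := fun p u => S.n1_e 2 p u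
    have w6 : ∀ p u, S.n1 * S.e 3 p u * S.n1⁻¹ = S.e 2 p u := fun p u => S.n1_e 3 p u
    have w8 : ∀ p u, S.n1 * S.e 4 p u * S.n1⁻¹ = S.e 1 p u := fun p u => S.n1_e 4 p u
    rw [key]
    simp only [map_mul, Subgroup.coe_mul]
    rw [hw.e2 _ a2' b2 rfl, hw.e3 _ a3' rfl, hw.e4 _ a4' b4 rfl, hw.e5 _ a5' rfl, hw.e6 _ a6' b6 rfl, hw.e7 _ a7' rfl,
      hw.e8 _ a8' b8 rfl]
    simp only [a2, a3, a4, a5, a6, a7, a8]
    rw [← w2 a2' b2, ← w3 a3', ← w4 a4' b4, ← w6 a6' b6, ← w7 a7', ← w8 a8' b8]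
    conv_lhs => rw [← w5 a5']
    group

/-- the Weyl element is unique -/
theorem wb_unique {m : ℕ} (hK : HypK σ m) {w0 w1 : MulAut T.QB} (hw : T.IsWb w0) (hw1 : T.IsWb w1) : w0 = w1 := by
  apply Cfsg.Agent.H7.TF.ext_B T hK.two
  · intro p u; exact Subtype.ext ((hw.e2 _ p u rfl).trans (hw1.e2 _ p u rfl).symm)
  · intro t; exact Subtype.ext ((hw.e3 _ t rfl).trans (hw1.e3 _ t rfl).symm)
  · intro p u; exact Subtype.ext ((hw.e4 _ p u rfl).trans (hw1.e4 _ p u rfl).symm)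
  · intro t; exact Subtype.ext ((hw.e5 _ t rfl).trans (hw1.e5 _ t rfl).symm)
  · intro p u; exact Subtype.ext ((hw.e6 _ p u rfl).trans (hw1.e6 _ p u rfl).symm)
  · intro t; exact Subtype.ext ((hw.e7 _ t rfl).trans (hw1.e7 _ t rfl).symm)
  · intro p u; exact Subtype.ext ((hw.e8 _ p u rfl).trans (hw1.e8 _ p u rfl).symm)

theorem wb_sq {m : ℕ} (hK : HypK σ m) {w0 : MulAut T.QB} (hw : T.IsWb w0) : w0 * w0 = 1 := by
  obtain ⟨G, _, f, n, y, hf, hn, -, -, -, hwf⟩ := wb_emb T hK hw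
  apply MulEquiv.ext
  intro e
  apply Subtype.ext
  apply hf
  rw [MulAut.mul_apply, hwf, hwf]
  have hni : n⁻¹ = n := inv_eq_of_mul_eq_one_left hn
  rw [hni, show n * (n * f (e : U) * n) * n = (n * n) * f (e : U) * (n * n) by group, hn, one_mul, mul_one]
  rfl

end

/-- (RHO) -/
theorem stRhoB : StRhoB.{u, v} := by
  intro K _ σ hK U _ T cx w0 hcx hw
  obtain ⟨G, _, f, n, y, hf, hn, hnw, hy, hny, hwf⟩ := wb_emb T hK hw
  have hx : T.x1 1 * T.x1 1 = 1 := by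
    apply co_injective T
    rw [co_mul hK, co_x1, co_one]
    ext <;> simp only [e1, mul_a1, mul_a2, mul_b2, mul_a3, mul_a4, mul_b4, mul_a5, mul_a6, mul_b6, mul_a7, mul_a8, mul_b8,
      zero_mul, mul_zero, add_zero, zero_add, map_zero, pow_zero, ne_eq, OfNat.ofNat_ne_zero, not_false_eq_true, zero_pow]
    rw [← two_mul, hK.two, zero_mul]
  set x : G := f (T.x1 1) with hxd
  have hx2 : x * x = 1 := by rw [hxd, ← map_mul, hx, map_one]
  have hxi : x⁻¹ = x := inv_eq_of_mul_eq_one_left hx2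
  have hyi : y⁻¹ = y := inv_eq_of_mul_eq_one_left hy
  have hni : n⁻¹ = n := inv_eq_of_mul_eq_one_left hn
  -- `(x n)^3 = 1`
  have hg : x * n * (x * n) * (x * n) = 1 := by
    have h1 : x * n = y * x := by
      rw [hnw, ← mul_assoc, ← mul_assoc, hx2, one_mul]
    have h2 : n * x * n = y := by
      have := hny
      rwa [hni] at this
    have h3 : x * y * x * y * x = y := by
      have h4 : n * x * n = x * y * x * y * x := by
        rw [hnw, show x * y * x * x * (x * y * x) = x * y * x * (x * x) * y * x by group, hx2, mul_one]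
      rw [← h4, h2]
    rw [h1, show y * x * (y * x) * (y * x) = y * (x * y * x * y * x) by group, h3, hy]
  apply MulEquiv.ext
  intro e
  apply Subtype.ext
  apply hf
  have hstep : ∀ e : T.QB, f (((cx * w0) e : T.QB) : U) = (x * n) * f e * (x * n)⁻¹ := by
    intro e
    rw [MulAut.mul_apply, hcx, map_mul, map_mul, map_inv, hwf, ← hxd]
    group
  rw [MulAut.mul_apply, MulAut.mul_apply, hstep, hstep, hstep]
  have e1 : x * n * (x * n * (x * n * f (e : U) * (x * n)⁻¹) * (x * n)⁻¹) * (x * n)⁻¹ =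
      (x * n * (x * n) * (x * n)) * f (e : U) * (x * n * (x * n) * (x * n))⁻¹ := by group
  rw [e1, hg, one_mul, inv_one, mul_one]
  rfl

end Cfsg.Agent.H240.TF
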