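import Cfsg.Agent.H240.TF.B2
import Cfsg.Agent.H782.TF.FinB

/-!
# S5262, `q = 2`: the `B`-side (helper240, with `StFinB` by helper782)
-/

set_option autoImplicit false

namespace Cfsg.Agent.H240.TF

/-- `StB2` -/
theorem stB2 : Cfsg.Agent.H745.TF.StB2 := stB2_of Cfsg.Agent.H782.TF.FB.stFinB

end Cfsg.Agent.H240.TF
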