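import Cfsg.Agent.H805.TF.Iso
import Cfsg.Agent.H659.TF.PosA

/-!
# S5262, LA1 / LA2: the quotient `U / Q_a`, uniqueness and products of torus automorphisms (helper240)
-/

set_option autoImplicit false

namespace Cfsg.Agent.H240.TF

open Cfsg.Agent.Octagon.Pkg Cfsg.Agent.H745.TF Cfsg.Agent.H659.TF

universe u v

/-- the group `X8` -/
@[ext] structure SU {K : Type u} [Field K] (σ : K →+* K) where
  p : K
  u : K

namespace SU

variable {K : Type u} [Field K] {σ : K →+* K}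

instance : Mul (SU σ) := ⟨fun x y => ⟨x.p + y.p, x.u + y.u + x.p * σ y.p⟩⟩
instance : One (SU σ) := ⟨⟨0, 0⟩⟩
instance : Inv (SU σ) := ⟨fun x => ⟨-x.p, -x.u + x.p * σ x.p⟩⟩

@[simp] theorem mul_p (x y : SU σ) : (x * y).p = x.p + y.p := rfl
@[simp] theorem mul_u (x y : SU σ) : (x * y).u = x.u + y.u + x.p * σ y.p := rfl
@[simp] theorem one_p : (1 : SU σ).p = 0 := rfl
@[simp] theorem one_u : (1 : SU σ).u = 0 := rfl
@[simp] theorem inv_p (x : SU σ) : (x⁻¹).p = -x.p := rfl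
@[simp] theorem inv_u (x : SU σ) : (x⁻¹).u = -x.u + x.p * σ x.p := rfl

instance : Group (SU σ) where
  mul_assoc x y z := by ext <;> simp <;> ring
  one_mul x := by ext <;> simp
  mul_one x := by ext <;> simp
  inv_mul_cancel x := by ext <;> simp

end SU

section

variable {K : Type u} [Field K] {σ : K →+* K} {U : Type v} [Group U] (T : TF σ U)

/-- the projection onto `X8` -/
structure Rho (ρ : U →* SU σ) : Prop where
  e1 : ∀ t, ρ (T.x1 t) = 1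
  e2 : ∀ p u, ρ (T.x2 p u) = 1
  e3 : ∀ t, ρ (T.x3 t) = 1
  e4 : ∀ p u, ρ (T.x4 p u) = 1
  e5 : ∀ t, ρ (T.x5 t) = 1
  e6 : ∀ p u, ρ (T.x6 p u) = 1
  e7 : ∀ t, ρ (T.x7 t) = 1
  e8 : ∀ p u, ρ (T.x8 p u) = ⟨p, u⟩

theorem exists_rho : ∃ ρ : U →* SU σ, Rho T ρ := by
  obtain ⟨ρ, h1, h2, h3, h4, h5, h6, h7, h8⟩ := ump T (H := SU σ) (y1 := fun _ => 1) (y2 := fun _ _ => 1)
    (y3 := fun _ => 1) (y4 := fun _ _ => 1) (y5 := fun _ => 1) (y6 := fun _ _ => 1) (y7 := fun _ => 1)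
    (y8 := fun p u => ⟨p, u⟩) (by
      constructor <;> intros <;> (try simp) <;> (try (ext <;> simp)))
  exact ⟨ρ, h1, h2, h3, h4, h5, h6, h7, h8⟩

variable {T} {ρ : U →* SU σ} (P : Rho T ρ)
include P

theorem Rho.el (c : Cd K) : ρ (T.el c) = ⟨c.a8, c.b8⟩ := by
  simp [TF.el, P.e1, P.e2, P.e3, P.e4, P.e5, P.e6, P.e7, P.e8]

theorem Rho.mem_QA (x : U) : x ∈ T.QA ↔ ρ x = 1 := by
  constructor
  · intro h
    have hle : T.QA ≤ ρ.ker := by
      unfold TF.QA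
      refine sup_le (sup_le (sup_le (sup_le (sup_le (sup_le ?_ ?_) ?_) ?_) ?_) ?_) ?_ <;>
        refine (Subgroup.closure_le _).2 ?_
      · rintro _ ⟨t, rfl⟩; exact P.e1 t
      · rintro _ ⟨p, u, rfl⟩; exact P.e2 p u
      · rintro _ ⟨t, rfl⟩; exact P.e3 t
      · rintro _ ⟨p, u, rfl⟩; exact P.e4 p u
      · rintro _ ⟨t, rfl⟩; exact P.e5 t
      · rintro _ ⟨p, u, rfl⟩; exact P.e6 p u
      · rintro _ ⟨t, rfl⟩; exact P.e7 t
    exact hle h
  · intro h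
    obtain ⟨c, rfl⟩ := T.bij.2 x
    change T.el c ∈ T.QA
    have h' : ρ (T.el c) = 1 := h
    rw [P.el] at h'
    have h8 : c.a8 = 0 := congrArg SU.p h'
    have h9 : c.b8 = 0 := congrArg SU.u h'
    unfold TF.el
    rw [h8, h9, x8_zero T.rel, mul_one]
    exact mul_mem (mul_mem (mul_mem (mul_mem (mul_mem (mul_mem (x1_A _) (x2_A _ _)) (x3_A _)) (x4_A _ _)) (x5_A _)) (x6_A _ _))
      (x7_A _)

theorem Rho.x8_mem (p u : K) : T.x8 p u ∈ T.QA ↔ p = 0 ∧ u = 0 := by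
  rw [P.mem_QA, P.e8]
  constructor
  · intro h
    exact ⟨congrArg SU.p h, congrArg SU.u h⟩
  · rintro ⟨rfl, rfl⟩
    rfl

omit P in
theorem exists_x8 (T : TF σ U) (x : U) : ∃ e ∈ T.QA, ∃ p u, x = e * T.x8 p u := by
  obtain ⟨c, rfl⟩ := T.bij.2 x
  exact ⟨_, mul_mem (mul_mem (mul_mem (mul_mem (mul_mem (mul_mem (x1_A _) (x2_A _ _)) (x3_A _)) (x4_A _ _)) (x5_A _)) (x6_A _ _))
      (x7_A _), _, _, rfl⟩

theorem Rho.normal : T.QA.Normal := by
  refine ⟨fun n hn g => ?_⟩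
  rw [P.mem_QA] at hn ⊢
  rw [map_mul, map_mul, hn, mul_one, ← map_mul, mul_inv_cancel, map_one]

omit P in
theorem QA_normal (T : TF σ U) : T.QA.Normal := by
  obtain ⟨ρ, P⟩ := exists_rho T
  exact P.normal

omit P in
/-- the coordinates of `x4` -/
theorem x4_inj (T : TF σ U) {p u r s : K} (h : T.x4 p u = T.x4 r s) : p = r ∧ u = s := by
  have e : ∀ p u, T.x4 p u = T.x1 0 * T.x2 0 0 * T.x3 0 * T.x4 p u * T.x5 0 * T.x6 0 0 * T.x7 0 * T.x8 0 0 := by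
    intro p u
    rw [x1_zero T.rel, x2_zero T.rel, x3_zero T.rel, x5_zero T.rel, x6_zero T.rel, x7_zero T.rel, x8_zero T.rel]
    simp
  rw [e p u, e r s] at h
  have h1 := T.bij.1 (a₁ := ⟨0, 0, 0, 0, p, u, 0, 0, 0, 0, 0, 0⟩) (a₂ := ⟨0, 0, 0, 0, r, s, 0, 0, 0, 0, 0, 0⟩) h
  exact ⟨congrArg Cd.a4 h1, congrArg Cd.b4 h1⟩

omit P in
/-- automorphisms are determined by the values on the root elements -/
theorem aut_ext (T : TF σ U) {α β : MulAut U} (h1 : ∀ t, α (T.x1 t) = β (T.x1 t)) (h2 : ∀ p u, α (T.x2 p u) = β (T.x2 p u))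
    (h3 : ∀ t, α (T.x3 t) = β (T.x3 t)) (h4 : ∀ p u, α (T.x4 p u) = β (T.x4 p u)) (h5 : ∀ t, α (T.x5 t) = β (T.x5 t))
    (h6 : ∀ p u, α (T.x6 p u) = β (T.x6 p u)) (h7 : ∀ t, α (T.x7 t) = β (T.x7 t))
    (h8 : ∀ p u, α (T.x8 p u) = β (T.x8 p u)) : α = β := by
  have h := Cfsg.Agent.H805.TF.hom_ext T (φ := α.toMonoidHom) (ψ := β.toMonoidHom) h1 h2 h3 h4 h5 h6 h7 h8
  ext x
  exact DFunLike.congr_fun h x

omit P in
theorem tor_unique (T : TF σ U) {α β : MulAut U} {f g : K} {τ : K ≃+* K} (h : T.IsTor α f g τ) (h' : T.IsTor β f g τ) :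
    α = β := by
  apply aut_ext T <;> intros
  · rw [h.e1, h'.e1]
  · rw [h.e2, h'.e2]
  · rw [h.e3, h'.e3]
  · rw [h.e4, h'.e4]
  · rw [h.e5, h'.e5]
  · rw [h.e6, h'.e6]
  · rw [h.e7, h'.e7]
  · rw [h.e8, h'.e8]

omit P in
theorem tor_one (T : TF σ U) {α : MulAut U} (h : T.IsTor α 1 1 (RingEquiv.refl K)) : α = 1 := by
  apply aut_ext T <;> intros
  · rw [h.e1]; simp
  · rw [h.e2]; simp
  · rw [h.e3]; simp
  · rw [h.e4]; simp
  · rw [h.e5]; simp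
  · rw [h.e6]; simp
  · rw [h.e7]; simp
  · rw [h.e8]; simp

omit P in
theorem tor_mul (T : TF σ U) {α β : MulAut U} {f g f' g' : K} (h : T.IsTor α f g (RingEquiv.refl K))
    (h' : T.IsTor β f' g' (RingEquiv.refl K)) : T.IsTor (α * β) (f * f') (g * g') (RingEquiv.refl K) where
  nf := mul_ne_zero h.nf h'.nf
  ng := mul_ne_zero h.ng h'.ng
  e1 t := by rw [MulAut.mul_apply, h'.e1, h.e1]; simp only [RingEquiv.refl_apply]; congr 1; ring
  e2 p u := by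
    rw [MulAut.mul_apply, h'.e2, h.e2]; simp only [RingEquiv.refl_apply, map_mul]; congr 1 <;> ring
  e3 t := by rw [MulAut.mul_apply, h'.e3, h.e3]; simp only [RingEquiv.refl_apply, map_mul]; congr 1; ring
  e4 p u := by
    rw [MulAut.mul_apply, h'.e4, h.e4]; simp only [RingEquiv.refl_apply, map_mul]; congr 1 <;> ring
  e5 t := by rw [MulAut.mul_apply, h'.e5, h.e5]; simp only [RingEquiv.refl_apply, map_mul]; congr 1; ring
  e6 p u := by
    rw [MulAut.mul_apply, h'.e6, h.e6]; simp only [RingEquiv.refl_apply, map_mul]; congr 1 <;> ring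
  e7 t := by rw [MulAut.mul_apply, h'.e7, h.e7]; simp only [RingEquiv.refl_apply, map_mul]; congr 1; ring
  e8 p u := by
    rw [MulAut.mul_apply, h'.e8, h.e8]; simp only [RingEquiv.refl_apply, map_mul]; congr 1 <;> ring

end

end Cfsg.Agent.H240.TF
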