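import Cfsg.Agent.H240.TF.Ess4b
import Cfsg.Agent.H491.TF.Exc
import Cfsg.Agent.H218.TE.Basic
import Cfsg.Agent.H218.TE.LCj

/-!
# S5262: StEss4a, StEss4b, closed (helper240)
-/

set_option autoImplicit false

namespace Cfsg.Agent.H240.TF

open Cfsg.Agent.H745.TF

universe u v

theorem stEss4a : StEss4a.{u, v} :=
  stEss4a_of Cfsg.Agent.H218.TE.stPhi Cfsg.Agent.H218.TE.stHull Cfsg.Agent.H491.TF.Exc.stSQ

theorem stEss4b : StEss4b.{u, v} :=
  stEss4b_of Cfsg.Agent.H218.TE.stPhi Cfsg.Agent.H218.TE.stHull Cfsg.Agent.H218.TE.stConj Cfsg.Agent.H491.TF.Exc.stSQ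

end Cfsg.Agent.H240.TF
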