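import Cfsg.Agent.H752.TF.Ess3
import Cfsg.Agent.H752.TF.Inv

/-!
# S5262 (ESS4a, ESS4b): commutators in `QB` in coordinates (helper240)
-/

set_option autoImplicit false
set_option linter.unusedVariables false
set_option linter.unusedSimpArgs false

namespace Cfsg.Agent.H240.TF

open Cfsg Cfsg.FusionSystem Cfsg.Agent.Octagon.Pkg Cfsg.Agent.H745.TF Cfsg.Agent.H756.PU
open Cfsg.Agent.H752.TF

universe u v

variable {K : Type u} [Field K] {σ : K →+* K} {m : ℕ} (hK : HypK σ m)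
variable {U : Type v} [Group U] (T : TF σ U)

include hK

/-- `[w, x5(s)] = z4(ps) z6(ks)` -/
theorem co_QB_Y {w y : U} (hw : w ∈ T.QB) (hy : y ∈ T.Y) :
    co T (w * y * w⁻¹ * y⁻¹) =
      ⟨0, 0, 0, 0, 0, (co T w).a2 * (co T y).a5, 0, 0, (co T w).a8 * (co T y).a5, 0, 0, 0⟩ := by
  apply co_comm hK
  rw [mem_QB hK] at hw
  rw [mem_Y hK] at hy
  have h2 := hK.two
  generalize co T w = c at hw ⊢
  generalize co T y = d at hy ⊢
  obtain ⟨d1, d2, d3, d4, d5, d6, d7, d8, d9⟩ := hy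
  ext <;> simp only [mul_a1, mul_a2, mul_b2, mul_a3, mul_a4, mul_b4, mul_a5, mul_a6, mul_b6, mul_a7, mul_a8, mul_b8,
    hw, d1, d2, d3, d4, d5, d6, d7, d8, d9, zero_mul, mul_zero, add_zero, zero_add, map_zero, pow_zero, ne_eq,
    OfNat.ofNat_ne_zero, not_false_eq_true, zero_pow]
  all_goals first | ring1 | grind

/-- `V` is central in `QB` -/
theorem comm_QB_V {w v : U} (hw : w ∈ T.QB) (hv : v ∈ T.V) : w * v = v * w := by
  have h1 := co_QB_Y hK T hw (V_le_Y hK T hv)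
  rw [mem_V hK] at hv
  rw [hv.2.2.2.2.2.1, mul_zero, mul_zero] at h1
  have h2 : w * v * w⁻¹ * v⁻¹ = 1 := co_injective T (by rw [h1, co_one])
  rw [mul_inv_eq_one, mul_inv_eq_iff_eq_mul] at h2
  exact h2

/-- `[QB, A37] ≤ Y`, with the `x5`-coordinate -/
theorem comm_QB_A37 {w a : U} (hw : w ∈ T.QB) (ha : a ∈ T.A37) :
    w * a * w⁻¹ * a⁻¹ ∈ T.Y ∧
      (co T (w * a * w⁻¹ * a⁻¹)).a5 = σ (co T w).a8 * (co T a).a3 + (co T a).a7 * σ (co T w).a2 := by
  have h2 := hK.two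
  have e : co T (w * a * w⁻¹ * a⁻¹ * (a * w)) = co T (w * a) := by
    congr 1
    group
  rw [co_mul hK T _ (a * w), co_mul hK T a w, co_mul hK T w a] at e
  rw [mem_QB hK] at hw
  rw [mem_A37 hK] at ha
  rw [mem_Y hK]
  generalize co T (w * a * w⁻¹ * a⁻¹) = z at e ⊢
  generalize co T w = c at e hw ⊢
  generalize co T a = d at e ha ⊢
  obtain ⟨d1, d2, d3, d4, d6, d8, d9⟩ := ha
  have f1 := congrArg Cd.a1 e
  simp only [mul_a1, hw, d1, d2, d3, d4, d6, d8, d9, zero_mul, mul_zero, add_zero, zero_add, map_zero] at f1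
  have f8 := congrArg Cd.a8 e
  simp only [mul_a8, hw, d1, d2, d3, d4, d6, d8, d9, zero_mul, mul_zero, add_zero, zero_add, map_zero] at f8
  replace f8 : z.a8 = 0 := by linear_combination f8
  have g8 := congrArg Cd.b8 e
  simp only [mul_b8, mul_a8, hw, d1, d2, d3, d4, d6, d8, d9, f1, f8, zero_mul, mul_zero, add_zero, zero_add, map_zero] at g8
  replace g8 : z.b8 = 0 := by linear_combination g8
  have f2 := congrArg Cd.a2 e
  simp only [mul_a2, mul_a1, hw, d1, d2, d3, d4, d6, d8, d9, f1, f8, g8, zero_mul, mul_zero, add_zero, zero_add, map_zero] at f2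
  replace f2 : z.a2 = 0 := by linear_combination f2
  have f4 := congrArg Cd.a4 e
  simp only [mul_a4, mul_a2, mul_a1, hw, d1, d2, d3, d4, d6, d8, d9, f1, f8, g8, f2, zero_mul, mul_zero, add_zero, zero_add,
    map_zero] at f4
  replace f4 : z.a4 = 0 := by linear_combination f4
  have f6 := congrArg Cd.a6 e
  simp only [mul_a6, mul_a4, mul_a2, mul_a1, hw, d1, d2, d3, d4, d6, d8, d9, f1, f8, g8, f2, f4, zero_mul, mul_zero, add_zero,
    zero_add, map_zero] at f6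
  replace f6 : z.a6 = 0 := by linear_combination f6
  have f7 := congrArg Cd.a7 e
  simp only [mul_a7, mul_a6, mul_a4, mul_a2, mul_a1, hw, d1, d2, d3, d4, d6, d8, d9, f1, f8, g8, f2, f4, f6, zero_mul, mul_zero,
    add_zero, zero_add, map_zero, pow_zero, ne_eq, OfNat.ofNat_ne_zero, not_false_eq_true, zero_pow] at f7
  replace f7 : z.a7 = 0 := by linear_combination f7
  have g2 := congrArg Cd.b2 e
  simp only [mul_b2, mul_a6, mul_a4, mul_a2, mul_a1, hw, d1, d2, d3, d4, d6, d8, d9, f1, f8, g8, f2, f4, f6, f7, zero_mul,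
    mul_zero, add_zero, zero_add, map_zero, pow_zero, ne_eq, OfNat.ofNat_ne_zero, not_false_eq_true, zero_pow] at g2
  replace g2 : z.b2 = 0 := by linear_combination g2
  have f3 := congrArg Cd.a3 e
  simp only [mul_a3, mul_b2, mul_a6, mul_a4, mul_a2, mul_a1, hw, d1, d2, d3, d4, d6, d8, d9, f1, f8, g8, f2, f4, f6, f7, g2,
    zero_mul, mul_zero, add_zero, zero_add, map_zero, pow_zero, ne_eq, OfNat.ofNat_ne_zero, not_false_eq_true, zero_pow] at f3
  replace f3 : z.a3 = 0 := by linear_combination f3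
  have f5 := congrArg Cd.a5 e
  simp only [mul_a5, mul_a3, mul_b2, mul_a6, mul_a4, mul_a2, mul_a1, hw, d1, d2, d3, d4, d6, d8, d9, f1, f8, g8, f2, f4, f6, f7,
    g2, f3, zero_mul, mul_zero, add_zero, zero_add, map_zero, pow_zero, ne_eq, OfNat.ofNat_ne_zero, not_false_eq_true,
    zero_pow] at f5
  refine ⟨⟨f1, f2, g2, f3, f4, f6, f7, f8, g8⟩, ?_⟩
  linear_combination f5 - d.a7 * σ c.a2 * h2

/-- `[A37, QB] ≤ Y` -/
theorem comm_A37_QB {a w : U} (ha : a ∈ T.A37) (hw : w ∈ T.QB) : a * w * a⁻¹ * w⁻¹ ∈ T.Y := by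
  have h1 := T.Y.inv_mem (comm_QB_A37 hK T hw ha).1
  have h2 : (w * a * w⁻¹ * a⁻¹)⁻¹ = a * w * a⁻¹ * w⁻¹ := by group
  rwa [h2] at h1

/-- `[N3, QB] ≤ A37`, with the coordinates modulo `Y` -/
theorem comm_N3_QB {n w : U} (hn : n ∈ T.N3) (hw : w ∈ T.QB) :
    n * w * n⁻¹ * w⁻¹ ∈ T.A37 ∧
      (co T (n * w * n⁻¹ * w⁻¹)).a3 = (co T n).a4 * (co T w).a2 + (co T w).a8 * (co T n).b2 ∧
      (co T (n * w * n⁻¹ * w⁻¹)).a7 = (co T n).b8 * (co T w).a2 + (co T w).a8 * (co T n).a6 := by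
  have h2 := hK.two
  have e : co T (n * w * n⁻¹ * w⁻¹ * (w * n)) = co T (n * w) := by
    congr 1
    group
  rw [co_mul hK T _ (w * n), co_mul hK T w n, co_mul hK T n w] at e
  rw [mem_N3 hK] at hn
  rw [mem_QB hK] at hw
  rw [mem_A37 hK]
  generalize co T (n * w * n⁻¹ * w⁻¹) = z at e ⊢
  generalize co T n = c at e hn ⊢
  generalize co T w = d at e hw ⊢
  obtain ⟨c1, c2, c8⟩ := hn
  have f1 := congrArg Cd.a1 e
  simp only [mul_a1, hw, c1, c2, c8, zero_mul, mul_zero, add_zero, zero_add, map_zero] at f1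
  have f8 := congrArg Cd.a8 e
  simp only [mul_a8, hw, c1, c2, c8, zero_mul, mul_zero, add_zero, zero_add, map_zero] at f8
  replace f8 : z.a8 = 0 := by linear_combination f8
  have g8 := congrArg Cd.b8 e
  simp only [mul_b8, mul_a8, hw, c1, c2, c8, f1, f8, zero_mul, mul_zero, add_zero, zero_add, map_zero] at g8
  replace g8 : z.b8 = 0 := by linear_combination g8
  have f2 := congrArg Cd.a2 e
  simp only [mul_a2, mul_a1, hw, c1, c2, c8, f1, f8, g8, zero_mul, mul_zero, add_zero, zero_add, map_zero] at f2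
  replace f2 : z.a2 = 0 := by linear_combination f2
  have f4 := congrArg Cd.a4 e
  simp only [mul_a4, mul_a2, mul_a1, hw, c1, c2, c8, f1, f8, g8, f2, zero_mul, mul_zero, add_zero, zero_add, map_zero] at f4
  replace f4 : z.a4 = 0 := by linear_combination f4
  have f6 := congrArg Cd.a6 e
  simp only [mul_a6, mul_a4, mul_a2, mul_a1, hw, c1, c2, c8, f1, f8, g8, f2, f4, zero_mul, mul_zero, add_zero, zero_add,
    map_zero] at f6
  replace f6 : z.a6 = 0 := by linear_combination f6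
  have g2 := congrArg Cd.b2 e
  simp only [mul_b2, mul_a6, mul_a4, mul_a2, mul_a1, hw, c1, c2, c8, f1, f8, g8, f2, f4, f6, zero_mul, mul_zero, add_zero,
    zero_add, map_zero, pow_zero, ne_eq, OfNat.ofNat_ne_zero, not_false_eq_true, zero_pow] at g2
  replace g2 : z.b2 = 0 := by linear_combination g2
  have f7 := congrArg Cd.a7 e
  simp only [mul_a7, mul_a6, mul_a4, mul_a2, mul_a1, hw, c1, c2, c8, f1, f8, g8, f2, f4, f6, g2, zero_mul, mul_zero, add_zero,
    zero_add, map_zero, pow_zero, ne_eq, OfNat.ofNat_ne_zero, not_false_eq_true, zero_pow] at f7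
  replace f7 : z.a7 = c.b8 * d.a2 + d.a8 * c.a6 := by linear_combination f7 - d.a8 * c.a6 * h2
  have f3 := congrArg Cd.a3 e
  simp only [mul_a3, mul_b2, mul_a6, mul_a4, mul_a2, mul_a1, hw, c1, c2, c8, f1, f8, g8, f2, f4, f6, g2, zero_mul, mul_zero,
    add_zero, zero_add, map_zero, pow_zero, ne_eq, OfNat.ofNat_ne_zero, not_false_eq_true, zero_pow] at f3
  replace f3 : z.a3 = c.a4 * d.a2 + d.a8 * c.b2 := by linear_combination f3 - d.a8 * c.b2 * h2
  exact ⟨⟨f1, f2, g2, f4, f6, f8, g8⟩, f3, f7⟩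

/-- `A37` is abelian -/
theorem comm_A37 {a b : U} (ha : a ∈ T.A37) (hb : b ∈ T.A37) : a * b * a⁻¹ * b⁻¹ = 1 := by
  apply co_injective T
  rw [comm_N3_A37 hK T (A37_le_N3 hK T ha) hb, co_one]
  rw [mem_A37 hK] at ha
  obtain ⟨d1, d2, d3, d4, d6, d8, d9⟩ := ha
  simp only [d3, d4, d6, d9, zero_mul, add_zero]

/-- `A37` has exponent 2 -/
theorem sq_A37 {a : U} (ha : a ∈ T.A37) : a * a = 1 := by
  have h2 := hK.two
  apply co_injective T
  rw [co_mul hK, co_one]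
  rw [mem_A37 hK] at ha
  generalize co T a = c at ha ⊢
  obtain ⟨d1, d2, d3, d4, d6, d8, d9⟩ := ha
  ext <;> simp only [mul_a1, mul_a2, mul_b2, mul_a3, mul_a4, mul_b4, mul_a5, mul_a6, mul_b6, mul_a7, mul_a8, mul_b8,
    d1, d2, d3, d4, d6, d8, d9, zero_mul, mul_zero, add_zero, zero_add, map_zero, pow_zero, ne_eq,
    OfNat.ofNat_ne_zero, not_false_eq_true, zero_pow]
  all_goals grind

/-- `[N_L, y] ≤ Z4`, first case -/
theorem comm_Z4_case {n y : U} (hn : n ∈ T.N3) (hy : y ∈ T.N3) (n4 : (co T n).a4 = 0) (n8 : (co T n).b8 = 0)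
    (y4 : (co T y).a4 = 0) (y6 : (co T y).a6 = 0) (y8 : (co T y).b8 = 0) :
    n * y * n⁻¹ * y⁻¹ ∈ T.Z4 := by
  rw [mem_Z4 hK]
  refine ⟨(co T n).a6 * (co T y).a3 + (co T n).a7 * (co T y).b2 + (co T y).a7 * (co T n).b2, ?_⟩
  apply co_injective T
  rw [co_x4]
  apply co_comm hK
  rw [mem_N3 hK] at hn hy
  have h2 := hK.two
  generalize co T n = c at hn n4 n8 ⊢
  generalize co T y = d at hy y4 y6 y8 ⊢
  obtain ⟨c1, c2, c8⟩ := hn
  obtain ⟨d1, d2, d8⟩ := hy
  ext <;> simp only [e4, mul_a1, mul_a2, mul_b2, mul_a3, mul_a4, mul_b4, mul_a5, mul_a6, mul_b6, mul_a7, mul_a8, mul_b8,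
    c1, c2, c8, d1, d2, d8, n4, n8, y4, y6, y8, zero_mul, mul_zero, add_zero, zero_add, map_zero, pow_zero, ne_eq,
    OfNat.ofNat_ne_zero, not_false_eq_true, zero_pow]
  all_goals first | ring1 | grind

/-- `[N_L, y] ≤ Z6`, second case -/
theorem comm_Z6_case {n y : U} (hn : n ∈ T.N3) (hy : y ∈ T.N3) (n2 : (co T n).b2 = 0) (n6 : (co T n).a6 = 0)
    (y2 : (co T y).b2 = 0) (y4 : (co T y).a4 = 0) (y6 : (co T y).a6 = 0) :
    n * y * n⁻¹ * y⁻¹ ∈ T.Z6 := by
  rw [mem_Z6 hK]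
  refine ⟨(co T n).b8 * (co T y).a3 + (co T y).a7 * (co T n).a4 + (co T y).b8 * (co T n).a3, ?_⟩
  apply co_injective T
  rw [co_x6]
  apply co_comm hK
  rw [mem_N3 hK] at hn hy
  have h2 := hK.two
  generalize co T n = c at hn n2 n6 ⊢
  generalize co T y = d at hy y2 y4 y6 ⊢
  obtain ⟨c1, c2, c8⟩ := hn
  obtain ⟨d1, d2, d8⟩ := hy
  ext <;> simp only [e6, mul_a1, mul_a2, mul_b2, mul_a3, mul_a4, mul_b4, mul_a5, mul_a6, mul_b6, mul_a7, mul_a8, mul_b8,
    c1, c2, c8, d1, d2, d8, n2, n6, y2, y4, y6, zero_mul, mul_zero, add_zero, zero_add, map_zero, pow_zero, ne_eq,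
    OfNat.ofNat_ne_zero, not_false_eq_true, zero_pow]
  all_goals first | ring1 | grind

end Cfsg.Agent.H240.TF
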