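import Cfsg.Agent.H745.TF.EssStmts3
import Cfsg.Agent.H240.TF.QBc

/-!
# S5262 (ESS4a): an essential `Y ≤ R ≤ QB`, `R ≰ N3` contains `A37` (helper240)
-/

set_option autoImplicit false
set_option linter.unusedVariables false
set_option linter.unusedSimpArgs false

namespace Cfsg.Agent.H240.TF

open Cfsg Cfsg.FusionSystem Cfsg.Agent.Octagon.Pkg Cfsg.Agent.H745.TF Cfsg.Agent.H756.PU
open Cfsg.Agent.H752.TF Cfsg.Agent.H802.TE

universe u v

/-- a subgroup that normalizes `E` up to `Y ≤ E` -/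
theorem com_inv {Ω : Type*} [Group Ω] {N : Subgroup Ω} {a b : Ω} (h : a * b * a⁻¹ * b⁻¹ ∈ N) :
    b * a * b⁻¹ * a⁻¹ ∈ N := by
  have h1 := N.inv_mem h
  have h2 : (a * b * a⁻¹ * b⁻¹)⁻¹ = b * a * b⁻¹ * a⁻¹ := by group
  rwa [h2] at h1

section

variable {K : Type u} [Field K] {σ : K →+* K} {m : ℕ} (hK : HypK σ m)
variable {U : Type v} [Group U] (T : TF σ U)

include hK

/-- the key computation: `y = γ(y0)` an involution of `N3∖A37`, `y0 ∈ Y`; then `y` is "parallel" to each `w ∈ R` -/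
theorem key_delta {R : Subgroup U} {Γ : Subgroup (MulAut R)} (hQB : R ≤ T.QB) {γ : MulAut R}
    {y0 : R} (hy0 : (y0 : U) ∈ T.Y) (hyN : ((γ y0 : R) : U) ∈ T.N3) {p0 k0 r : K} (hr : r ≠ 0)
    (hb2 : (co T ((γ y0 : R) : U)).b2 = r * p0 * σ p0) (ha4 : (co T ((γ y0 : R) : U)).a4 = r * σ p0 * k0)
    (ha6 : (co T ((γ y0 : R) : U)).a6 = r * p0 * σ k0) (hb8 : (co T ((γ y0 : R) : U)).b8 = r * k0 * σ k0)
    {w : U} (hw : w ∈ R) : k0 * (co T w).a2 + p0 * (co T w).a8 = 0 := by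
  have h2 := hK.two
  set y : U := ((γ y0 : R) : U) with hy
  -- `[y, w]` is central in `R`
  have hcen : ∀ z ∈ R, z * (y * w * y⁻¹ * w⁻¹) = (y * w * y⁻¹ * w⁻¹) * z := by
    intro z hz
    set w' : R := γ⁻¹ ⟨w, hw⟩ with hw'
    set z' : R := γ⁻¹ ⟨z, hz⟩ with hz'
    have h1 : (y0 * w' * y0⁻¹ * w'⁻¹ : R) = ⟨y0 * w' * (y0 : U)⁻¹ * (w' : U)⁻¹, (y0 * w' * y0⁻¹ * w'⁻¹ : R).2⟩ := rfl
    have hV : (y0 : U) * w' * (y0 : U)⁻¹ * (w' : U)⁻¹ ∈ T.V := by
      apply com_inv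
      rw [mem_V hK, co_QB_Y hK T (hQB w'.2) hy0]
      exact ⟨rfl, rfl, rfl, rfl, rfl, rfl, rfl, rfl, rfl, rfl⟩
    have h3 : z' * (y0 * w' * y0⁻¹ * w'⁻¹) = (y0 * w' * y0⁻¹ * w'⁻¹) * z' := by
      apply Subtype.ext
      exact comm_QB_V hK T (hQB z'.2) hV
    have h4 := congrArg (fun e : R => ((γ e : R) : U)) h3
    simp only [map_mul, map_inv, hw', hz', MulAut.apply_inv_self, Subgroup.coe_mul, Subgroup.coe_inv] at h4
    exact h4
  obtain ⟨hA, h3, h7⟩ := comm_N3_QB hK T hyN (hQB hw)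
  obtain ⟨-, h5⟩ := comm_QB_A37 hK T (hQB hw) hA
  have h6 : w * (y * w * y⁻¹ * w⁻¹) * w⁻¹ * (y * w * y⁻¹ * w⁻¹)⁻¹ = 1 := by
    rw [hcen w hw, mul_inv_cancel_right, mul_inv_cancel]
  rw [h6, co_one, h3, h7, hb2, ha4, ha6, hb8] at h5
  set p := (co T w).a2
  set k := (co T w).a8
  have h8 : r * (k0 * p + p0 * k) * σ (k0 * p + p0 * k) = 0 := by
    rw [map_add, map_mul, map_mul]
    linear_combination -h5
  rcases mul_eq_zero.1 h8 with h | h
  · exact (mul_eq_zero.1 h).resolve_left hr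
  · exact (map_eq_zero σ).1 h

end

/-- (ESS4a) -/
theorem stEss4a_of (hphi : StPhi.{v}) (hhull : StHull.{v}) (hsq : StSQ.{u, v}) : StEss4a.{u, v} := by
  intro K _ σ m hK U _ T R Γ hE hY hQB hN
  have h2 := hK.two
  have := finite_U hK T
  have := hK.fin
  by_contra hAR
  have hpR : IsPGroup 2 R := hE.pgr.of_injective (Subgroup.inclusion hE.E_le) (Subgroup.inclusion_injective _)
  obtain ⟨hΦR, hRR, -, -, -, -⟩ := hphi R 2 Nat.prime_two inferInstance hpR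
  obtain ⟨γ, hγ, y0, hy0, a, ha, hcon⟩ := hhull hE T.A37 T.Y le_top hY
    (fun x hx e he => comm_A37_QB hK T hx (hQB he)) hAR
  have hsq0 : y0 * y0 = 1 := Subtype.ext (sq_A37 hK T (Y_le_A37 hK T hy0))
  have hy2 : ((γ y0 : R) : U) * ((γ y0 : R) : U) = 1 := by
    have h := congrArg (fun e : R => ((γ e : R) : U)) hsq0
    simpa only [map_mul, map_one, Subgroup.coe_mul, Subgroup.coe_one] using h
  have hyQ : ((γ y0 : R) : U) ∈ T.QB := hQB (γ y0).2
  have hyN : ((γ y0 : R) : U) ∈ T.N3 := stOrd hK T _ hy2 hyQ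
  have hyA : ((γ y0 : R) : U) ∉ T.A37 := by
    intro h
    apply hcon
    rw [comm_A37 hK T ha h]
    exact (Phi R).one_mem
  obtain ⟨p0, k0, r, hr, hpk, hb2, ha4, ha6, hb8⟩ := hsq hK T (co T ((γ y0 : R) : U))
    (by rw [el_co]; exact hyN) (by rw [el_co]; exact hy2) (by rw [el_co]; exact hyA)
  obtain ⟨w, hw, hwN⟩ := SetLike.not_le_iff_exists.1 hN
  have hδ := key_delta (Γ := Γ) hK T hQB hy0 hyN hr hb2 ha4 ha6 hb8 hw
  have hwQ := hQB hw
  -- `(p, k) = λ (p0, k0)`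
  obtain ⟨l, hl, hlp, hlk⟩ : ∃ l : K, l ≠ 0 ∧ (co T w).a2 = l * p0 ∧ (co T w).a8 = l * k0 := by
    have hne : (co T w).a2 ≠ 0 ∨ (co T w).a8 ≠ 0 := by
      by_contra hh
      push Not at hh
      apply hwN
      rw [mem_N3 hK]
      rw [mem_QB hK] at hwQ
      exact ⟨hwQ, hh.1, hh.2⟩
    rcases hpk with h0 | h0
    · have e1 : (co T w).a2 = (co T w).a2 / p0 * p0 := by rw [div_mul_cancel₀ _ h0]
      have e2 : (co T w).a8 = (co T w).a2 / p0 * k0 := by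
        field_simp
        linear_combination hδ - k0 * (co T w).a2 * h2
      refine ⟨(co T w).a2 / p0, ?_, e1, e2⟩
      intro h
      rw [h, zero_mul] at e1 e2
      rcases hne with h' | h'
      · exact h' e1
      · exact h' e2
    · have e1 : (co T w).a8 = (co T w).a8 / k0 * k0 := by rw [div_mul_cancel₀ _ h0]
      have e2 : (co T w).a2 = (co T w).a8 / k0 * p0 := by
        field_simp
        linear_combination hδ - p0 * (co T w).a8 * h2
      refine ⟨(co T w).a8 / k0, ?_, e2, e1⟩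
      intro h
      rw [h, zero_mul] at e1 e2
      rcases hne with h' | h'
      · exact h' e2
      · exact h' e1
  -- `[a, y] = [w, x5 s]⁻¹`
  set t := (co T a).a3 with ht
  set s := (co T a).a7 with hs
  set z := r * (σ k0 * t + σ p0 * s) / l with hz
  have hz' : l * z = r * (σ k0 * t + σ p0 * s) := by
    rw [hz]
    field_simp
  have hx5 : T.x5 z ∈ T.Y := X5_le_Y T (x5_mem T z)
  have e1 := comm_N3_A37 hK T hyN ha
  have e2 := co_QB_Y hK T hwQ hx5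
  have e3 : ((γ y0 : R) : U) * a * ((γ y0 : R) : U)⁻¹ * a⁻¹ = w * T.x5 z * w⁻¹ * (T.x5 z)⁻¹ := by
    apply co_injective T
    rw [e1, e2, hb2, ha4, ha6, hb8, hlp, hlk, co_x5]
    ext <;> simp only [e5]
    · linear_combination -p0 * hz'
    · linear_combination -k0 * hz'
  apply hcon
  apply com_inv
  rw [e3]
  exact hRR w hw _ (hY hx5)

end Cfsg.Agent.H240.TF
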