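import Cfsg.Agent.H666.Link

/-!
# Involutions of a TI Sylow 2-subgroup (helper240)
-/

set_option autoImplicit false

open Subgroup Cfsg Cfsg.Agent.H666

namespace Cfsg.Agent.H240.TF

variable {G : Type*} [Group G] [Finite G]

/-- two involutions in different Sylow 2-subgroups are conjugate -/
theorem invol_conj_of_ne (hTI : TI.IsTI 2 G) {P R : Sylow 2 G} (hPR : P ≠ R) (L : Subgroup G) {x y : G}
    (hx : x ∈ P) (hy : y ∈ R) (hxL : x ∈ L) (hyL : y ∈ L) (hx2 : x * x = 1) (hy2 : y * y = 1) (hx1 : x ≠ 1) (hy1 : y ≠ 1) :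
    ∃ l ∈ L, l * x * l⁻¹ = y := by
  have : Fact (Nat.Prime 2) := ⟨Nat.prime_two⟩
  have hxi : x⁻¹ = x := inv_eq_of_mul_eq_one_right hx2
  have hyi : y⁻¹ = y := inv_eq_of_mul_eq_one_right hy2
  have hr : ∀ k : ℕ, x * (x * y) ^ k * x = ((x * y) ^ k)⁻¹ := by
    intro k
    have h1 : x * (x * y) ^ k * x⁻¹ = (x * (x * y) * x⁻¹) ^ k := (conj_pow).symm
    have h2 : x * (x * y) * x⁻¹ = (x * y)⁻¹ := by
      rw [_root_.mul_inv_rev, hxi, hyi, ← mul_assoc, hx2, one_mul]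
    rw [hxi] at h1
    rw [h1]
    rw [hxi] at h2
    rw [h2, inv_pow]
  have hn0 : 0 < orderOf (x * y) := orderOf_pos _
  rcases Nat.even_or_odd (orderOf (x * y)) with ⟨k, hk⟩ | ⟨k, hk⟩
  · exfalso
    have hz2 : (x * y) ^ k * (x * y) ^ k = 1 := by rw [← pow_add, ← hk, pow_orderOf_eq_one]
    have hz1 : (x * y) ^ k ≠ 1 := by
      intro h
      have h1 := orderOf_dvd_of_pow_eq_one h
      have h2 := Nat.le_of_dvd (by omega) h1
      omega
    have hzi : ((x * y) ^ k)⁻¹ = (x * y) ^ k := inv_eq_of_mul_eq_one_right hz2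
    have hxz : x * (x * y) ^ k = (x * y) ^ k * x := by
      have h1 := hr k
      rw [hzi] at h1
      calc x * (x * y) ^ k = x * (x * y) ^ k * (x * x) := by rw [hx2, mul_one]
        _ = (x * (x * y) ^ k * x) * x := by group
        _ = (x * y) ^ k * x := by rw [h1]
    have hrz : (x * y) * (x * y) ^ k = (x * y) ^ k * (x * y) := by rw [← pow_succ', pow_succ]
    have hyz : y * (x * y) ^ k = (x * y) ^ k * y := by
      calc y * (x * y) ^ k = x * ((x * y) * (x * y) ^ k) := by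
            rw [← mul_assoc, ← mul_assoc, hx2, one_mul]
        _ = x * (x * y) ^ k * (x * y) := by rw [hrz, mul_assoc]
        _ = (x * y) ^ k * (x * x) * y := by rw [hxz]; group
        _ = (x * y) ^ k * y := by rw [hx2, mul_one]
    have hpz : TI.PElt 2 ((x * y) ^ k) := TI.pElt_of_pow (by rw [pow_two, hz2])
    have h1 := hTI.mem_of_comm hx hx1 hxz hpz
    have h2 := hTI.mem_of_comm hy hy1 hyz hpz
    exact hPR (hTI.sylow_eq h1 h2 hz1)
  · refine ⟨(x * y) ^ k, pow_mem (mul_mem hxL hyL) k, ?_⟩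
    have h1 : x * ((x * y) ^ k)⁻¹ = (x * y) ^ k * x := by
      rw [← hr k]
      calc x * (x * (x * y) ^ k * x) = (x * x) * (x * y) ^ k * x := by group
        _ = _ := by rw [hx2, one_mul]
    calc (x * y) ^ k * x * ((x * y) ^ k)⁻¹ = (x * y) ^ k * ((x * y) ^ k * x) := by rw [mul_assoc, h1]
      _ = (x * y) ^ (k + k) * x := by rw [← mul_assoc, ← pow_add]
      _ = (x * y)⁻¹ * x := by
        congr 1
        rw [eq_inv_iff_mul_eq_one, ← pow_succ, show k + k + 1 = 2 * k + 1 by ring, ← hk, pow_orderOf_eq_one]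
      _ = y := by rw [_root_.mul_inv_rev, inv_mul_cancel_right, hyi]

/-- the involutions of a non-normal TI Sylow 2-subgroup `P` are conjugate in `N_L(P)`, for `P ≤ L ⊴ G` -/
theorem invol_conj (hTI : TI.IsTI 2 G) (P : Sylow 2 G) (hN : normalizer ((P : Subgroup G) : Set G) ≠ ⊤) (L : Subgroup G)
    [hLn : L.Normal] (hPL : (P : Subgroup G) ≤ L) {x y : G} (hx : x ∈ P) (hy : y ∈ P) (hx2 : x * x = 1) (hy2 : y * y = 1)
    (hx1 : x ≠ 1) (hy1 : y ≠ 1) : ∃ l ∈ L, l ∈ normalizer ((P : Subgroup G) : Set G) ∧ l * x * l⁻¹ = y := by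
  obtain ⟨g, hg⟩ : ∃ g : G, g ∉ normalizer ((P : Subgroup G) : Set G) := by
    by_contra h
    push Not at h
    exact hN ((eq_top_iff' _).2 h)
  have hPR : P ≠ g • P := fun h => hg (Sylow.smul_eq_iff_mem_normalizer.1 h.symm)
  have hz : g * x * g⁻¹ ∈ g • P := by
    show g * x * g⁻¹ ∈ ((g • P : Sylow 2 G) : Subgroup G)
    rw [Sylow.coe_subgroup_smul]
    exact ⟨x, hx, rfl⟩
  have hz2 : (g * x * g⁻¹) * (g * x * g⁻¹) = 1 := by
    calc (g * x * g⁻¹) * (g * x * g⁻¹) = g * (x * x) * g⁻¹ := by group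
      _ = 1 := by rw [hx2, mul_one, mul_inv_cancel]
  have hz1 : g * x * g⁻¹ ≠ 1 := by
    intro h
    rw [mul_inv_eq_one] at h
    exact hx1 (mul_eq_left.1 h)
  have hzL : g * x * g⁻¹ ∈ L := hLn.conj_mem x (hPL hx) g
  obtain ⟨l, hl, hl'⟩ := invol_conj_of_ne hTI hPR L hx hz (hPL hx) hzL hx2 hz2 hx1 hz1
  obtain ⟨k, hk, hk'⟩ := invol_conj_of_ne hTI hPR L hy hz (hPL hy) hzL hy2 hz2 hy1 hz1
  have hlk : (k⁻¹ * l) * x * (k⁻¹ * l)⁻¹ = y := by
    calc (k⁻¹ * l) * x * (k⁻¹ * l)⁻¹ = k⁻¹ * (l * x * l⁻¹) * k := by group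
      _ = k⁻¹ * (k * y * k⁻¹) * k := by rw [hl', hk']
      _ = y := by group
  refine ⟨k⁻¹ * l, mul_mem (inv_mem hk) hl, ?_, hlk⟩
  refine Sylow.smul_eq_iff_mem_normalizer.1 ?_
  refine hTI.sylow_eq (x := y) ?_ hy hy1
  show y ∈ (((k⁻¹ * l) • P : Sylow 2 G) : Subgroup G)
  rw [Sylow.coe_subgroup_smul]
  exact ⟨x, hx, hlk⟩

end Cfsg.Agent.H240.TF
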