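import Cfsg.Agent.H240.TF.Base
import Cfsg.Agent.H805.TF.Tor

/-!
# S5262, LA2: restrictions to `QA`, the Weyl element and the torus (helper240)
-/

set_option autoImplicit false

namespace Cfsg.Agent.H240.TF

open Cfsg Cfsg.FusionSystem Cfsg.Agent.Octagon.Pkg Cfsg.Agent.H745.TF Cfsg.Agent.H659.TF Cfsg.Agent.H756.PU

universe u v

section

variable {K : Type u} [Field K] {σ : K →+* K} {m : ℕ} {U : Type v} [Group U] {T : TF σ U}

/-- automorphisms of `QA` are determined by the values on the root elements -/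
theorem autA_ext {α β : MulAut T.QA}
    (h1 : ∀ t, α ⟨T.x1 t, x1_A t⟩ = β ⟨T.x1 t, x1_A t⟩)
    (h2 : ∀ p u, α ⟨T.x2 p u, x2_A p u⟩ = β ⟨T.x2 p u, x2_A p u⟩)
    (h3 : ∀ t, α ⟨T.x3 t, x3_A t⟩ = β ⟨T.x3 t, x3_A t⟩)
    (h4 : ∀ p u, α ⟨T.x4 p u, x4_A p u⟩ = β ⟨T.x4 p u, x4_A p u⟩)
    (h5 : ∀ t, α ⟨T.x5 t, x5_A t⟩ = β ⟨T.x5 t, x5_A t⟩)
    (h6 : ∀ p u, α ⟨T.x6 p u, x6_A p u⟩ = β ⟨T.x6 p u, x6_A p u⟩)
    (h7 : ∀ t, α ⟨T.x7 t, x7_A t⟩ = β ⟨T.x7 t, x7_A t⟩) : α = β := by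
  obtain ⟨ρ, R⟩ := exists_rho T
  ext ⟨x, hx⟩
  congr 1
  obtain ⟨c, hc⟩ := T.bij.2 x
  have h8 : ρ (T.el c) = 1 := by
    rw [R.mem_QA] at hx
    rw [← hx, ← hc]
    rfl
  rw [R.el] at h8
  have h9 : c.a8 = 0 := congrArg SU.p h8
  have h10 : c.b8 = 0 := congrArg SU.u h8
  have e : (⟨x, hx⟩ : T.QA) = ⟨T.x1 c.a1, x1_A _⟩ * ⟨T.x2 c.a2 c.b2, x2_A _ _⟩ * ⟨T.x3 c.a3, x3_A _⟩ *
      ⟨T.x4 c.a4 c.b4, x4_A _ _⟩ * ⟨T.x5 c.a5, x5_A _⟩ * ⟨T.x6 c.a6 c.b6, x6_A _ _⟩ * ⟨T.x7 c.a7, x7_A _⟩ := by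
    apply Subtype.ext
    have h11 : x = T.x1 c.a1 * T.x2 c.a2 c.b2 * T.x3 c.a3 * T.x4 c.a4 c.b4 * T.x5 c.a5 * T.x6 c.a6 c.b6 * T.x7 c.a7 := by
      rw [← hc]
      show T.x1 c.a1 * T.x2 c.a2 c.b2 * T.x3 c.a3 * T.x4 c.a4 c.b4 * T.x5 c.a5 * T.x6 c.a6 c.b6 * T.x7 c.a7 *
        T.x8 c.a8 c.b8 = _
      rw [h9, h10, x8_zero T.rel, mul_one]
    exact h11
  rw [e]
  simp only [map_mul, h1, h2, h3, h4, h5, h6, h7]

/-- restriction to `QA` -/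
def rsH (hch : ∀ α : MulAut U, ∀ x ∈ T.QA, α x ∈ T.QA) : MulAut U →* MulAut T.QA where
  toFun α :=
    { toFun := fun e => ⟨α e, hch α e e.2⟩
      invFun := fun e => ⟨α⁻¹ e, hch α⁻¹ e e.2⟩
      left_inv := fun e => Subtype.ext (MulAut.inv_apply_self _ _ _)
      right_inv := fun e => Subtype.ext (MulAut.apply_inv_self _ _ _)
      map_mul' := fun a b => Subtype.ext (map_mul α (a : U) (b : U)) }
  map_one' := by
    ext e
    rfl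
  map_mul' a b := by
    ext e
    rfl

variable (hch : ∀ α : MulAut U, ∀ x ∈ T.QA, α x ∈ T.QA)

theorem rsH_apply (α : MulAut U) (e : T.QA) : ((rsH hch α e : T.QA) : U) = α e := rfl

theorem rsH_isR (α : MulAut U) : TF.IsR α (rsH hch α) := fun _ => rfl

theorem isR_iff (α : MulAut U) (γ : MulAut T.QA) : TF.IsR α γ ↔ γ = rsH hch α := by
  constructor
  · intro h
    ext e
    rw [h e]
    rfl
  · rintro rfl
    exact rsH_isR hch α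

/-- the Weyl element is unique -/
theorem wa_unique {γ γ' : MulAut T.QA} (h : T.IsWa γ) (h' : T.IsWa γ') : γ = γ' := by
  apply autA_ext <;> intros <;> apply Subtype.ext
  · rw [h.e1 _ _ rfl, h'.e1 _ _ rfl]
  · rw [h.e2 _ _ _ rfl, h'.e2 _ _ _ rfl]
  · rw [h.e3 _ _ rfl, h'.e3 _ _ rfl]
  · rw [h.e4 _ _ _ rfl, h'.e4 _ _ _ rfl]
  · rw [h.e5 _ _ rfl, h'.e5 _ _ rfl]
  · rw [h.e6 _ _ _ rfl, h'.e6 _ _ _ rfl]
  · rw [h.e7 _ _ rfl, h'.e7 _ _ rfl]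

/-- the Weyl element acts on the torus -/
theorem wa_tor (hK : HypK σ m) {w : MulAut T.QA} (hw : T.IsWa w) {α α' : MulAut U} {f g : K}
    (h : T.IsTor α f g (RingEquiv.refl K)) (h' : T.IsTor α' (f * g ^ 2 * σ g) g⁻¹ (RingEquiv.refl K)) :
    w * rsH hch α = rsH hch α' * w := by
  have hf := h.nf
  have hg := h.ng
  have hsf : σ f ≠ 0 := (map_ne_zero σ).2 hf
  have hsg : σ g ≠ 0 := (map_ne_zero σ).2 hg
  apply autA_ext <;> intros <;> apply Subtype.ext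
  · rename_i t
    show ((w (rsH hch α ⟨T.x1 t, _⟩) : T.QA) : U) = α' ((w ⟨T.x1 t, _⟩ : T.QA) : U)
    rw [hw.e1 (rsH hch α ⟨T.x1 t, x1_A t⟩) _ (h.e1 t), hw.e1 ⟨T.x1 t, x1_A t⟩ t rfl, h'.e7]
    simp only [RingEquiv.refl_apply, map_inv₀]
    congr 1
    field_simp
  · rename_i p u
    show ((w (rsH hch α ⟨T.x2 p u, _⟩) : T.QA) : U) = α' ((w ⟨T.x2 p u, _⟩ : T.QA) : U)
    rw [hw.e2 (rsH hch α ⟨T.x2 p u, x2_A p u⟩) _ _ (h.e2 p u), hw.e2 ⟨T.x2 p u, x2_A p u⟩ p u rfl, h'.e6]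
    simp only [RingEquiv.refl_apply, map_inv₀, map_mul, map_pow, hK.sq]
    congr 1 <;> field_simp
  · rename_i t
    show ((w (rsH hch α ⟨T.x3 t, _⟩) : T.QA) : U) = α' ((w ⟨T.x3 t, _⟩ : T.QA) : U)
    rw [hw.e3 (rsH hch α ⟨T.x3 t, x3_A t⟩) _ (h.e3 t), hw.e3 ⟨T.x3 t, x3_A t⟩ t rfl, h'.e5]
    simp only [RingEquiv.refl_apply, map_inv₀, map_mul, map_pow, hK.sq]
    congr 1
    field_simp
  · rename_i p u
    show ((w (rsH hch α ⟨T.x4 p u, _⟩) : T.QA) : U) = α' ((w ⟨T.x4 p u, _⟩ : T.QA) : U)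
    rw [hw.e4 (rsH hch α ⟨T.x4 p u, x4_A p u⟩) _ _ (h.e4 p u), hw.e4 ⟨T.x4 p u, x4_A p u⟩ p u rfl, h'.e4]
    simp only [RingEquiv.refl_apply, map_inv₀, map_mul, map_pow, hK.sq]
    congr 1 <;> field_simp
  · rename_i t
    show ((w (rsH hch α ⟨T.x5 t, _⟩) : T.QA) : U) = α' ((w ⟨T.x5 t, _⟩ : T.QA) : U)
    rw [hw.e5 (rsH hch α ⟨T.x5 t, x5_A t⟩) _ (h.e5 t), hw.e5 ⟨T.x5 t, x5_A t⟩ t rfl, h'.e3]
    simp only [RingEquiv.refl_apply, map_inv₀, map_mul, map_pow, hK.sq]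
    congr 1
    field_simp
  · rename_i p u
    show ((w (rsH hch α ⟨T.x6 p u, _⟩) : T.QA) : U) = α' ((w ⟨T.x6 p u, _⟩ : T.QA) : U)
    rw [hw.e6 (rsH hch α ⟨T.x6 p u, x6_A p u⟩) _ _ (h.e6 p u), hw.e6 ⟨T.x6 p u, x6_A p u⟩ p u rfl, h'.e2]
    simp only [RingEquiv.refl_apply, map_inv₀, map_mul, map_pow, hK.sq]
    congr 1 <;> field_simp
  · rename_i t
    show ((w (rsH hch α ⟨T.x7 t, _⟩) : T.QA) : U) = α' ((w ⟨T.x7 t, _⟩ : T.QA) : U)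
    rw [hw.e7 (rsH hch α ⟨T.x7 t, x7_A t⟩) _ (h.e7 t), hw.e7 ⟨T.x7 t, x7_A t⟩ t rfl, h'.e1]

/-- the torus elements with trivial action on `Z4` -/
theorem hs_of_fix (hK : HypK σ m) {d : MulAut U} {f g : K} {τ : K ≃+* K} (ht : T.IsTor d f g τ)
    (hfix : ∀ u, d (T.x4 0 u) = T.x4 0 u) :
    ∃ y : K, y ≠ 0 ∧ T.IsTor d (y * σ y) (σ y)⁻¹ (RingEquiv.refl K) := by
  have key : ∀ u, u = σ (f * g) * g * σ (σ (f * g) * g) * τ u := by
    intro u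
    have e2 := hfix u
    rw [ht.e4, map_zero, mul_zero] at e2
    exact (x4_inj T e2.symm).2
  have k1 := key 1
  rw [map_one, mul_one] at k1
  have hτ : τ = RingEquiv.refl K := by
    ext u
    have k2 := key u
    rw [← k1, one_mul] at k2
    exact k2.symm
  subst hτ
  have hχ : σ (f * g) * g = 1 := by
    have hx : σ (f * g) * g ≠ 0 := mul_ne_zero ((map_ne_zero σ).2 (mul_ne_zero ht.nf ht.ng)) ht.ng
    have h1 : σ (σ (f * g) * g) = (σ (f * g) * g)⁻¹ := eq_inv_of_mul_eq_one_right k1.symm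
    have h2 := hK.sq (σ (f * g) * g)
    rw [h1, map_inv₀, h1, inv_inv] at h2
    have h3 : (σ (f * g) * g) * ((σ (f * g) * g) - 1) = 0 := by linear_combination -h2
    rcases mul_eq_zero.1 h3 with h4 | h4
    · exact absurd h4 hx
    · exact sub_eq_zero.1 h4
  have hg : g = (σ (f * g))⁻¹ := eq_inv_of_mul_eq_one_right hχ
  refine ⟨f * g, mul_ne_zero ht.nf ht.ng, ?_⟩
  rw [← hg]
  have hf : f * g * σ (f * g) = f := by
    calc f * g * σ (f * g) = f * (σ (f * g) * g) := by ring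
      _ = f := by rw [hχ, mul_one]
  rw [hf]
  exact ht

/-- the torus -/
def TS (T : TF σ U) (hK : HypK σ m) : Subgroup (MulAut U) where
  carrier := {α | ∃ f g : K, T.IsTor α f g (RingEquiv.refl K)}
  mul_mem' := by
    rintro a b ⟨f, g, h⟩ ⟨f', g', h'⟩
    exact ⟨_, _, tor_mul T h h'⟩
  one_mem' := by
    obtain ⟨α, hα⟩ := Cfsg.Agent.H805.TF.exists_tor T hK 1 1 (RingEquiv.refl K) one_ne_zero one_ne_zero
    refine ⟨1, 1, ?_⟩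
    rw [← tor_one T hα]
    exact hα
  inv_mem' := by
    rintro a ⟨f, g, h⟩
    obtain ⟨α, hα⟩ := Cfsg.Agent.H805.TF.exists_tor T hK f⁻¹ g⁻¹ (RingEquiv.refl K) (inv_ne_zero h.nf) (inv_ne_zero h.ng)
    refine ⟨f⁻¹, g⁻¹, ?_⟩
    have h1 := tor_mul T h hα
    rw [mul_inv_cancel₀ h.nf, mul_inv_cancel₀ h.ng] at h1
    have h2 : a⁻¹ = α := inv_eq_of_mul_eq_one_right (tor_one T h1)
    rw [h2]
    exact hα

/-- the torus of `L_A` -/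
def HS (T : TF σ U) (hK : HypK σ m) : Subgroup (MulAut U) where
  carrier := {α | ∃ y : K, y ≠ 0 ∧ T.IsTor α (y * σ y) (σ y)⁻¹ (RingEquiv.refl K)}
  mul_mem' := by
    rintro a b ⟨y, hy, h⟩ ⟨z, hz, h'⟩
    refine ⟨y * z, mul_ne_zero hy hz, ?_⟩
    have h1 := tor_mul T h h'
    have e1 : y * σ y * (z * σ z) = y * z * σ (y * z) := by rw [map_mul]; ring
    have e2 : (σ y)⁻¹ * (σ z)⁻¹ = (σ (y * z))⁻¹ := by rw [map_mul, mul_inv]
    rw [e1, e2] at h1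
    exact h1
  one_mem' := by
    obtain ⟨α, hα⟩ := Cfsg.Agent.H805.TF.exists_tor T hK 1 1 (RingEquiv.refl K) one_ne_zero one_ne_zero
    refine ⟨1, one_ne_zero, ?_⟩
    rw [← tor_one T hα, map_one, inv_one, mul_one]
    exact hα
  inv_mem' := by
    rintro a ⟨y, hy, h⟩
    have hsy : σ y ≠ 0 := (map_ne_zero σ).2 hy
    obtain ⟨α, hα⟩ := Cfsg.Agent.H805.TF.exists_tor T hK (y * σ y)⁻¹ (σ y) (RingEquiv.refl K) (inv_ne_zero h.nf) hsy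
    refine ⟨y⁻¹, inv_ne_zero hy, ?_⟩
    have h1 := tor_mul T h hα
    rw [mul_inv_cancel₀ h.nf, inv_mul_cancel₀ hsy] at h1
    have h2 : a⁻¹ = α := inv_eq_of_mul_eq_one_right (tor_one T h1)
    rw [h2, map_inv₀, inv_inv, ← mul_inv]
    exact hα

/-- `y / σ y` takes all values -/
theorem exists_div (hK : HypK σ m) {c : K} (hc : c ≠ 0) : ∃ y : K, y ≠ 0 ∧ y * (σ y)⁻¹ = c := by
  have := hK.fin
  let f : Kˣ →* Kˣ := MonoidHom.id Kˣ * (Units.map (σ : K →* K))⁻¹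
  have hf : ∀ x : Kˣ, ((f x : Kˣ) : K) = x * (σ x)⁻¹ := by
    intro x
    show ((x * (Units.map (σ : K →* K) x)⁻¹ : Kˣ) : K) = _
    rw [Units.val_mul, Units.val_inv_eq_inv_val]
    rfl
  have hinj : Function.Injective f := by
    rw [injective_iff_map_eq_one]
    intro x hx
    have h1 := hf x
    rw [hx, Units.val_one] at h1
    have hx0 : σ (x : K) ≠ 0 := (map_ne_zero σ).2 x.ne_zero
    have h2 : σ (x : K) = x := by
      rw [eq_mul_inv_iff_mul_eq₀ hx0, one_mul] at h1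
      exact h1
    have h3 := hK.sq (x : K)
    rw [h2, h2] at h3
    apply Units.ext
    have h4 : (x : K) * ((x : K) - 1) = 0 := by linear_combination -h3
    rcases mul_eq_zero.1 h4 with h5 | h5
    · exact absurd h5 x.ne_zero
    · exact sub_eq_zero.1 h5
  obtain ⟨y, hy⟩ := (Finite.injective_iff_surjective.1 hinj) (Units.mk0 c hc)
  refine ⟨y, y.ne_zero, ?_⟩
  rw [← hf, hy]
  rfl

/-- the full torus lies in `D` -/
theorem tor_mem (hK : HypK σ m) {D : Subgroup (MulAut U)} (hA : T.HasA D) (hB : T.HasB D) {α : MulAut U} {f g : K}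
    (h : T.IsTor α f g (RingEquiv.refl K)) : α ∈ D := by
  have hf := h.nf
  have hg := h.ng
  obtain ⟨y, hy, hyc⟩ := exists_div hK (mul_ne_zero hf (pow_ne_zero 2 hg))
  have hsy : σ y ≠ 0 := (map_ne_zero σ).2 hy
  obtain ⟨α1, h1⟩ := Cfsg.Agent.H805.TF.exists_tor T hK (y * σ y) (σ y)⁻¹ (RingEquiv.refl K) (mul_ne_zero hy hsy)
    (inv_ne_zero hsy)
  have hz : g * σ y ≠ 0 := mul_ne_zero hg hsy
  obtain ⟨α2, h2⟩ := Cfsg.Agent.H805.TF.exists_tor T hK ((g * σ y) ^ 2)⁻¹ (g * σ y) (RingEquiv.refl K)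
    (inv_ne_zero (pow_ne_zero 2 hz)) hz
  have h3 := tor_mul T h1 h2
  have e1 : y * σ y * ((g * σ y) ^ 2)⁻¹ = f := by
    have h4 : y * σ y * ((g * σ y) ^ 2)⁻¹ = (y * (σ y)⁻¹) * (g ^ 2)⁻¹ := by field_simp
    rw [h4, hyc]
    field_simp
  have e2 : (σ y)⁻¹ * (g * σ y) = g := by field_simp
  rw [e1, e2] at h3
  rw [tor_unique T h h3]
  exact mul_mem (hA y hy α1 h1) (hB _ hz α2 h2)

end

end Cfsg.Agent.H240.TF
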